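import Mathlib

/-!
The integral group ring of a dihedral group, in coordinates: rotation part and reflection part.
-/

set_option autoImplicit false
set_option linter.unusedSectionVars false

namespace Cfsg.Agent.H78.Dihedral

open DihedralGroup Finset

variable {m : ℕ} [NeZero m]

/-- The integral group ring of the dihedral group. -/
abbrev GR (m : ℕ) := MonoidAlgebra ℤ (DihedralGroup m)

/-- The coefficient of `d`. -/
noncomputable def cf (f : GR m) (d : DihedralGroup m) : ℤ := f.coeff d

/-- Rotation part. -/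
noncomputable def xc (f : GR m) (i : ZMod m) : ℤ := cf f (r i)

/-- Reflection part. -/
noncomputable def yc (f : GR m) (i : ZMod m) : ℤ := cf f (sr i)

theorem cf_ext {f g : GR m} (h : ∀ d, cf f d = cf g d) : f = g := MonoidAlgebra.ext (Finsupp.ext fun d => h d)

theorem ext_xy {f g : GR m} (hx : ∀ i, xc f i = xc g i) (hy : ∀ i, yc f i = yc g i) : f = g :=
  cf_ext fun d => by cases d with
    | r i => exact hx i
    | sr i => exact hy i

@[simp] theorem cf_zero (d : DihedralGroup m) : cf (0 : GR m) d = 0 := by simp [cf]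

@[simp] theorem cf_add (f g : GR m) (d : DihedralGroup m) : cf (f + g) d = cf f d + cf g d := by simp [cf]

@[simp] theorem cf_sub (f g : GR m) (d : DihedralGroup m) : cf (f - g) d = cf f d - cf g d := by simp [cf]

@[simp] theorem cf_neg (f : GR m) (d : DihedralGroup m) : cf (-f) d = -cf f d := by simp [cf]

@[simp] theorem cf_zsmul (c : ℤ) (f : GR m) (d : DihedralGroup m) : cf (c • f) d = c * cf f d := by
  rw [cf, MonoidAlgebra.coeff_smul_apply, smul_eq_mul, cf]

theorem cf_sum {ι : Type*} (s : Finset ι) (f : ι → GR m) (d : DihedralGroup m) :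
    cf (∑ i ∈ s, f i) d = ∑ i ∈ s, cf (f i) d := by simp [cf]

theorem cf_one (d : DihedralGroup m) [Decidable (d = 1)] : cf (1 : GR m) d = if d = 1 then 1 else 0 := by
  classical
  simp [cf, MonoidAlgebra.one_def, Finsupp.single_apply, eq_comm]

theorem cf_mul (f g : GR m) (d : DihedralGroup m) :
    cf (f * g) d = ∑ y, cf f y * cf g (y⁻¹ * d) := by
  classical
  rw [cf, MonoidAlgebra.coeff_mul, Finsupp.sum_fintype _ _ (by simp)]
  refine sum_congr rfl fun y _ => ?_
  rw [Finsupp.sum_fintype _ _ (by simp), sum_eq_single (y⁻¹ * d)]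
  · simp [cf]
  · intro z _ hz
    rw [if_neg]
    rintro rfl
    simp at hz
  · simp

/-- Sums over the dihedral group. -/
theorem sum_dih {R : Type*} [AddCommMonoid R] (F : DihedralGroup m → R) :
    ∑ d, F d = (∑ i, F (r i)) + ∑ i, F (sr i) := by
  let e : ZMod m ⊕ ZMod m ≃ DihedralGroup m :=
    { toFun := fun x => match x with
        | .inl i => r i
        | .inr i => sr i
      invFun := fun d => match d with
        | r i => .inl i
        | sr i => .inr i
      left_inv := fun x => by cases x <;> rfl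
      right_inv := fun d => by cases d <;> rfl }
  rw [← e.sum_comp, Fintype.sum_sum_type]
  rfl

theorem xc_mul (f g : GR m) (i : ZMod m) :
    xc (f * g) i = (∑ j, xc f j * xc g (i - j)) + ∑ j, yc f j * yc g (j + i) := by
  rw [xc, cf_mul, sum_dih]
  congr 1 <;> refine sum_congr rfl fun j _ => ?_ <;> simp [xc, yc, sub_eq_neg_add]

theorem yc_mul (f g : GR m) (i : ZMod m) :
    yc (f * g) i = (∑ j, xc f j * yc g (j + i)) + ∑ j, yc f j * xc g (i - j) := by
  rw [yc, cf_mul, sum_dih]
  congr 1 <;> refine sum_congr rfl fun j _ => ?_ <;> simp [xc, yc, add_comm]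

/-- The element with prescribed coefficients. -/
noncomputable def mk' (F : DihedralGroup m → ℤ) : GR m := MonoidAlgebra.ofCoeff (Finsupp.equivFunOnFinite.symm F)

@[simp] theorem cf_mk' (F : DihedralGroup m → ℤ) (d : DihedralGroup m) : cf (mk' F) d = F d := by simp [mk', cf]

/-- All coefficients are divisible by `q`. -/
def Dvd' (q : ℤ) (f : GR m) : Prop := ∀ d, q ∣ cf f d

theorem Dvd'.add {q : ℤ} {f g : GR m} (hf : Dvd' q f) (hg : Dvd' q g) : Dvd' q (f + g) :=
  fun d => by rw [cf_add]; exact dvd_add (hf d) (hg d)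

theorem Dvd'.neg {q : ℤ} {f : GR m} (hf : Dvd' q f) : Dvd' q (-f) :=
  fun d => by rw [cf_neg]; exact dvd_neg.2 (hf d)

theorem Dvd'.mul {q : ℤ} {f : GR m} (hf : Dvd' q f) (g : GR m) : Dvd' q (f * g) :=
  fun d => by rw [cf_mul]; exact dvd_sum fun y _ => Dvd.dvd.mul_right (hf y) _

theorem Dvd'.mul_left {q : ℤ} {f : GR m} (g : GR m) (hf : Dvd' q f) : Dvd' q (g * f) :=
  fun d => by rw [cf_mul]; exact dvd_sum fun y _ => Dvd.dvd.mul_left (hf _) _

theorem Dvd'.pow_sub {q : ℤ} {f g : GR m} (h : Dvd' q (f - g)) (n : ℕ) : Dvd' q (f ^ n - g ^ n) := by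
  induction n with
  | zero => intro d; simp
  | succ n ih =>
    have e : f ^ (n + 1) - g ^ (n + 1) = (f ^ n - g ^ n) * f + g ^ n * (f - g) := by
      rw [pow_succ, pow_succ, sub_mul, mul_sub]; abel
    rw [e]
    exact (ih.mul f).add (h.mul_left _)

theorem Dvd'.trans' {q : ℤ} {f g k : GR m} (h : Dvd' q (f - g)) (h' : Dvd' q (g - k)) : Dvd' q (f - k) := by
  have := h.add h'
  rwa [sub_add_sub_cancel] at this

/-- The sum of all coefficients. -/
noncomputable def deg (f : GR m) : ℤ := (∑ i, xc f i) + ∑ i, yc f i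

/-- Rotation sum minus reflection sum. -/
noncomputable def sgn (f : GR m) : ℤ := (∑ i, xc f i) - ∑ i, yc f i

private theorem sum_mul_sums (A B : ZMod m → ℤ) (e : ZMod m → ZMod m ≃ ZMod m) :
    ∑ i, ∑ j, A j * B (e j i) = (∑ j, A j) * ∑ i, B i := by
  rw [sum_comm, sum_mul]
  refine sum_congr rfl fun j _ => ?_
  rw [mul_sum]
  exact (e j).sum_comp fun i => A j * B i

theorem sums_mul (f g : GR m) :
    ∑ i, xc (f * g) i = (∑ i, xc f i) * (∑ i, xc g i) + (∑ i, yc f i) * ∑ i, yc g i ∧
    ∑ i, yc (f * g) i = (∑ i, xc f i) * (∑ i, yc g i) + (∑ i, yc f i) * ∑ i, xc g i := by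
  constructor
  · simp only [xc_mul, sum_add_distrib]
    exact congrArg₂ _ (sum_mul_sums _ _ fun j => Equiv.subRight j) (sum_mul_sums _ _ fun j => Equiv.addLeft j)
  · simp only [yc_mul, sum_add_distrib]
    exact congrArg₂ _ (sum_mul_sums _ _ fun j => Equiv.addLeft j) (sum_mul_sums _ _ fun j => Equiv.subRight j)

theorem deg_mul (f g : GR m) : deg (f * g) = deg f * deg g := by
  obtain ⟨h1, h2⟩ := sums_mul f g
  rw [deg, deg, deg, h1, h2]; ring

theorem sgn_mul (f g : GR m) : sgn (f * g) = sgn f * sgn g := by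
  obtain ⟨h1, h2⟩ := sums_mul f g
  rw [sgn, sgn, sgn, h1, h2]; ring

theorem deg_one : deg (1 : GR m) = 1 := by
  classical
  simp [deg, xc, yc, cf_one, one_def, -r_zero]

theorem sgn_one : sgn (1 : GR m) = 1 := by
  classical
  simp [sgn, xc, yc, cf_one, one_def, -r_zero]

theorem deg_pow (f : GR m) (n : ℕ) : deg (f ^ n) = deg f ^ n := by
  induction n with
  | zero => simp [deg_one]
  | succ n ih => rw [pow_succ, deg_mul, ih, pow_succ]

theorem sgn_pow (f : GR m) (n : ℕ) : sgn (f ^ n) = sgn f ^ n := by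
  induction n with
  | zero => simp [sgn_one]
  | succ n ih => rw [pow_succ, sgn_mul, ih, pow_succ]

theorem Dvd'.deg_sub {q : ℤ} {f g : GR m} (h : Dvd' q (f - g)) : q ∣ deg f - deg g := by
  have : deg f - deg g = (∑ i, cf (f - g) (r i)) + ∑ i, cf (f - g) (sr i) := by
    simp only [deg, xc, yc, cf_sub, sum_sub_distrib]; ring
  rw [this]
  exact dvd_add (dvd_sum fun i _ => h _) (dvd_sum fun i _ => h _)

theorem Dvd'.sgn_sub {q : ℤ} {f g : GR m} (h : Dvd' q (f - g)) : q ∣ sgn f - sgn g := by
  have : sgn f - sgn g = (∑ i, cf (f - g) (r i)) - ∑ i, cf (f - g) (sr i) := by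
    simp only [sgn, xc, yc, cf_sub, sum_sub_distrib]; ring
  rw [this]
  exact dvd_sub (dvd_sum fun i _ => h _) (dvd_sum fun i _ => h _)

/-- Only rotations occur. -/
def PureA (f : GR m) : Prop := ∀ i, yc f i = 0

/-- Only reflections occur. -/
def PureB (f : GR m) : Prop := ∀ i, xc f i = 0

theorem PureA.mul {f g : GR m} (hf : PureA f) (hg : PureA g) : PureA (f * g) :=
  fun i => by rw [yc_mul]; simp [hf _, hg _]

theorem PureA.mulB {f g : GR m} (hf : PureA f) (hg : PureB g) : PureB (f * g) :=
  fun i => by rw [xc_mul]; simp [hf _, hg _]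

theorem PureB.mul {f g : GR m} (hf : PureB f) (hg : PureB g) : PureA (f * g) :=
  fun i => by rw [yc_mul]; simp [hf _, hg _]

theorem pureA_one : PureA (1 : GR m) := fun i => by
  classical
  simp [yc, cf_one, one_def, -r_zero]

theorem PureA.pow {f : GR m} (hf : PureA f) (n : ℕ) : PureA (f ^ n) := by
  induction n with
  | zero => simpa using pureA_one
  | succ n ih => rw [pow_succ]; exact ih.mul hf

theorem PureB.pow_parity {f : GR m} (hf : PureB f) (n : ℕ) : (Even n → PureA (f ^ n)) ∧ (Odd n → PureB (f ^ n)) := by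
  induction n with
  | zero => exact ⟨fun _ => by simpa using pureA_one, fun h => absurd h (by decide)⟩
  | succ n ih =>
    refine ⟨fun h => ?_, fun h => ?_⟩
    · rw [pow_succ]
      exact (ih.2 (Nat.even_add_one.1 h |> Nat.not_even_iff_odd.1)).mul hf
    · rw [pow_succ]
      exact (ih.1 (Nat.odd_add_one.1 h |> Nat.not_odd_iff_even.1)).mulB hf

theorem PureA.commute {f g : GR m} (hf : PureA f) (hg : PureA g) : Commute f g := by
  refine ext_xy (fun i => ?_) fun i => ?_
  · simp only [xc_mul, hf _, hg _, mul_zero, sum_const_zero, add_zero]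
    rw [← Equiv.sum_comp (Equiv.subLeft i)]
    exact sum_congr rfl fun j _ => by simp [mul_comm]
  · simp [yc_mul, hf _, hg _]

/-- The rotation part as an element. -/
noncomputable def partA (f : GR m) : GR m :=
  mk' fun d => match d with
    | r i => xc f i
    | sr _ => 0

/-- The reflection part as an element. -/
noncomputable def partB (f : GR m) : GR m :=
  mk' fun d => match d with
    | r _ => 0
    | sr i => yc f i

theorem partA_pure (f : GR m) : PureA (partA f) := fun i => by simp [partA, yc]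

theorem partB_pure (f : GR m) : PureB (partB f) := fun i => by simp [partB, xc]

@[simp] theorem xc_partA (f : GR m) (i : ZMod m) : xc (partA f) i = xc f i := by simp [partA, xc]

@[simp] theorem yc_partB (f : GR m) (i : ZMod m) : yc (partB f) i = yc f i := by simp [partB, yc]

theorem part_add (f : GR m) : partA f + partB f = f :=
  ext_xy (fun i => by simp [xc, partA, partB]) fun i => by simp [yc, partA, partB]

theorem commute_parts {f : GR m} (hs : ∀ i, xc f (-i) = xc f i) : Commute (partA f) (partB f) := by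
  refine ext_xy (fun i => ?_) fun i => ?_
  · rw [(partA_pure f).mulB (partB_pure f) i, xc_mul]
    simp [partA_pure f _, partB_pure f _]
  · simp only [yc_mul, partA_pure f _, partB_pure f _, xc_partA, yc_partB, zero_mul, mul_zero, sum_const_zero,
      add_zero, zero_add]
    rw [← Equiv.sum_comp (Equiv.addRight i) fun j => yc f j * xc f (i - j)]
    exact sum_congr rfl fun j _ => by simp [hs, mul_comm]

theorem xc_add (f g : GR m) (i : ZMod m) : xc (f + g) i = xc f i + xc g i := cf_add f g _

theorem xc_sub (f g : GR m) (i : ZMod m) : xc (f - g) i = xc f i - xc g i := cf_sub f g _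

theorem xc_sum {ι : Type*} (s : Finset ι) (f : ι → GR m) (i : ZMod m) :
    xc (∑ k ∈ s, f k) i = ∑ k ∈ s, xc (f k) i := cf_sum s f _

theorem xc_natCast_mul (n : ℕ) (f : GR m) (i : ZMod m) : xc ((n : GR m) * f) i = n * xc f i := by
  rw [← nsmul_eq_mul, ← natCast_zsmul, xc, cf_zsmul, xc]

theorem xc_zsmul (c : ℤ) (f : GR m) (i : ZMod m) : xc (c • f) i = c * xc f i := cf_zsmul c f _

/-- The rotation part of a `p`-th power modulo `p`. -/
theorem xc_pow_prime {p : ℕ} (hp : p.Prime) (hodd : Odd p) {f : GR m} (hs : ∀ i, xc f (-i) = xc f i)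
    (i : ZMod m) : (p : ℤ) ∣ xc (f ^ p) i - ∑ j ∈ univ.filter (fun j => p • j = i), xc f j := by
  classical
  haveI := Fact.mk hp
  obtain ⟨c, hc⟩ := (commute_parts hs).exists_add_pow_prime_eq hp
  have key : ∀ s : Finset (ZMod m), ∃ h : GR m,
      (∑ j ∈ s, MonoidAlgebra.single (r j) (xc f j)) ^ p =
        (∑ j ∈ s, MonoidAlgebra.single (r (p • j)) (xc f j)) + (p : GR m) * h := by
    intro s
    induction s using Finset.induction_on with
    | empty => exact ⟨0, by simp [hp.ne_zero]⟩
    | insert a s ha ih =>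
      have hcomm : Commute (MonoidAlgebra.single (r a) (xc f a)) (∑ j ∈ s, MonoidAlgebra.single (r j) (xc f j)) := by
        refine Commute.sum_right _ _ _ fun j _ => ?_
        rw [Commute, SemiconjBy, MonoidAlgebra.single_mul_single, MonoidAlgebra.single_mul_single, r_mul_r, r_mul_r,
          add_comm, mul_comm]
      obtain ⟨h, hh⟩ := ih
      obtain ⟨c', hc'⟩ := hcomm.exists_add_pow_prime_eq hp
      obtain ⟨t, ht⟩ : (p : ℤ) ∣ xc f a ^ p - xc f a := by
        rw [← ZMod.intCast_zmod_eq_zero_iff_dvd]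
        simp
      refine ⟨h + MonoidAlgebra.single (r a) (xc f a) * ((∑ j ∈ s, MonoidAlgebra.single (r j) (xc f j)) * c') +
        MonoidAlgebra.single (r (p • a)) t, ?_⟩
      rw [sum_insert ha, sum_insert ha, hc', hh, MonoidAlgebra.single_pow, r_pow, mul_add, mul_add]
      simp only [mul_assoc]
      have : MonoidAlgebra.single (r (a * (p : ZMod m))) (xc f a ^ p) =
          MonoidAlgebra.single (r (p • a)) (xc f a) + (p : GR m) * MonoidAlgebra.single (r (p • a)) t := by
        rw [nsmul_eq_mul, mul_comm (p : ZMod m), ← nsmul_eq_mul, ← natCast_zsmul, MonoidAlgebra.smul_single,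
          smul_eq_mul, ← ht, ← MonoidAlgebra.single_add, add_sub_cancel]
      rw [this]
      abel
  obtain ⟨h, hh⟩ := key univ
  have hA : partA f = ∑ j, MonoidAlgebra.single (r j) (xc f j) := by
    refine ext_xy (fun i => ?_) fun i => ?_
    · rw [xc_partA, xc_sum, sum_eq_single i] <;> simp +contextual [xc, cf, Finsupp.single_apply]
    · rw [partA_pure, yc, cf_sum]
      simp [cf, Finsupp.single_apply]
  rw [part_add] at hc
  rw [hc, mul_assoc, mul_assoc, xc_add, xc_add, xc_natCast_mul, ((partB_pure f).pow_parity p).2 hodd i,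
    add_zero, hA, hh, xc_add, xc_natCast_mul, xc_sum]
  have : ∑ j, xc (MonoidAlgebra.single (r (p • j)) (xc f j)) i = ∑ j ∈ univ.filter (fun j => p • j = i), xc f j := by
    rw [sum_filter]
    refine sum_congr rfl fun j _ => ?_
    simp [xc, cf, Finsupp.single_apply]
  rw [this, add_assoc, add_sub_cancel_left]
  exact dvd_add (dvd_mul_right _ _) (dvd_mul_right _ _)

end Cfsg.Agent.H78.Dihedral
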