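import Cfsg.Agent.H78.Dihedral.SRing

/-!
Evaluation of the group ring of a dihedral group at the characters of the rotation subgroup.
-/

set_option autoImplicit false
set_option linter.unusedSectionVars false

namespace Cfsg.Agent.H78.Dihedral

open DihedralGroup Finset
open scoped ComplexConjugate

variable {m : ℕ} [NeZero m]

/-- Value of the rotation part. -/
noncomputable def ex (ψ : AddChar (ZMod m) ℂ) (f : GR m) : ℂ := ∑ i, ψ i * (xc f i : ℂ)

/-- Value of the reflection part. -/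
noncomputable def ey (ψ : AddChar (ZMod m) ℂ) (f : GR m) : ℂ := ∑ i, ψ i * (yc f i : ℂ)

theorem ex_add (ψ : AddChar (ZMod m) ℂ) (f g : GR m) : ex ψ (f + g) = ex ψ f + ex ψ g := by
  simp [ex, xc, mul_add, sum_add_distrib]

theorem ey_add (ψ : AddChar (ZMod m) ℂ) (f g : GR m) : ey ψ (f + g) = ey ψ f + ey ψ g := by
  simp [ey, yc, mul_add, sum_add_distrib]

theorem ex_zsmul (ψ : AddChar (ZMod m) ℂ) (c : ℤ) (f : GR m) : ex ψ (c • f) = c * ex ψ f := by
  simp only [ex, xc, cf_zsmul, mul_sum]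
  exact sum_congr rfl fun i _ => by push_cast; ring

theorem ey_zsmul (ψ : AddChar (ZMod m) ℂ) (c : ℤ) (f : GR m) : ey ψ (c • f) = c * ey ψ f := by
  simp only [ey, yc, cf_zsmul, mul_sum]
  exact sum_congr rfl fun i _ => by push_cast; ring

theorem ex_one (ψ : AddChar (ZMod m) ℂ) : ex ψ 1 = 1 := by
  classical
  rw [ex, sum_eq_single 0] <;> simp +contextual [xc, cf_one, one_def, -r_zero]

theorem ey_one (ψ : AddChar (ZMod m) ℂ) : ey ψ 1 = 0 := by
  classical
  simp [ey, yc, cf_one, one_def, -r_zero]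

theorem conj_ey (ψ : AddChar (ZMod m) ℂ) (f : GR m) : conj (ey ψ f) = ∑ i, ψ (-i) * (yc f i : ℂ) := by
  simp [ey, map_sum, AddChar.map_neg_eq_conj]

theorem conj_ex {ψ : AddChar (ZMod m) ℂ} {f : GR m} (hs : ∀ i, xc f (-i) = xc f i) : conj (ex ψ f) = ex ψ f := by
  simp only [ex, map_sum, map_mul, map_intCast, ← AddChar.map_neg_eq_conj]
  rw [← Equiv.sum_comp (Equiv.neg (ZMod m))]
  simp [hs]

theorem sum_shift (ψ : AddChar (ZMod m) ℂ) (G : ZMod m → ℂ) (c : ZMod m) :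
    ∑ i, ψ i * G (i + c) = ψ (-c) * ∑ i, ψ i * G i := by
  rw [← Equiv.sum_comp (Equiv.subRight c), mul_sum]
  refine sum_congr rfl fun i _ => ?_
  rw [Equiv.subRight_apply, sub_add_cancel, sub_eq_add_neg, AddChar.map_add_eq_mul]
  ring

theorem ex_mul (ψ : AddChar (ZMod m) ℂ) (f g : GR m) :
    ex ψ (f * g) = ex ψ f * ex ψ g + conj (ey ψ f) * ey ψ g := by
  have e1 : ∀ j : ZMod m, ∑ i, ψ i * (xc g (i - j) : ℂ) = ψ j * ex ψ g := fun j => by
    simp only [sub_eq_add_neg]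
    rw [sum_shift ψ (fun i => (xc g i : ℂ)) (-j), neg_neg, ex]
  have e2 : ∀ j : ZMod m, ∑ i, ψ i * (yc g (j + i) : ℂ) = ψ (-j) * ey ψ g := fun j => by
    simp only [add_comm j]
    rw [sum_shift ψ (fun i => (yc g i : ℂ)) j, ey]
  rw [ex]
  simp only [xc_mul, Int.cast_add, Int.cast_sum, Int.cast_mul, mul_add, mul_sum, sum_add_distrib]
  congr 1
  · rw [sum_comm, show ex ψ f = ∑ i, ψ i * (xc f i : ℂ) from rfl, sum_mul]
    refine sum_congr rfl fun j _ => ?_
    rw [mul_comm (ψ j), mul_assoc, ← e1, mul_sum]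
    exact sum_congr rfl fun i _ => by ring
  · rw [sum_comm, conj_ey, sum_mul]
    refine sum_congr rfl fun j _ => ?_
    rw [mul_comm (ψ (-j)), mul_assoc, ← e2, mul_sum]
    exact sum_congr rfl fun i _ => by ring

theorem ey_mul (ψ : AddChar (ZMod m) ℂ) (f g : GR m) :
    ey ψ (f * g) = conj (ex ψ f) * ey ψ g + ey ψ f * ex ψ g := by
  have e1 : ∀ j : ZMod m, ∑ i, ψ i * (xc g (i - j) : ℂ) = ψ j * ex ψ g := fun j => by
    simp only [sub_eq_add_neg]
    rw [sum_shift ψ (fun i => (xc g i : ℂ)) (-j), neg_neg, ex]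
  have e2 : ∀ j : ZMod m, ∑ i, ψ i * (yc g (j + i) : ℂ) = ψ (-j) * ey ψ g := fun j => by
    simp only [add_comm j]
    rw [sum_shift ψ (fun i => (yc g i : ℂ)) j, ey]
  rw [ey]
  simp only [yc_mul, Int.cast_add, Int.cast_sum, Int.cast_mul, mul_add, mul_sum, sum_add_distrib]
  congr 1
  · rw [sum_comm, show conj (ex ψ f) = ∑ i, ψ (-i) * (xc f i : ℂ) by
      simp [ex, map_sum, AddChar.map_neg_eq_conj], sum_mul]
    refine sum_congr rfl fun j _ => ?_
    rw [mul_comm (ψ (-j)), mul_assoc, ← e2, mul_sum]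
    exact sum_congr rfl fun i _ => by ring
  · rw [sum_comm, show ey ψ f = ∑ i, ψ i * (yc f i : ℂ) from rfl, sum_mul]
    refine sum_congr rfl fun j _ => ?_
    rw [mul_comm (ψ j), mul_assoc, ← e1, mul_sum]
    exact sum_congr rfl fun i _ => by ring

theorem sum_eq_zero_of_invariant {ψ : AddChar (ZMod m) ℂ} {z : ZMod m} (hψ : ψ z ≠ 1) (G : ZMod m → ℂ)
    (hG : ∀ i, G (i + z) = G i) : ∑ i, ψ i * G i = 0 := by
  have h := sum_shift ψ G z
  simp only [hG] at h
  have h1 : ψ (-z) ≠ 1 := fun h0 => hψ (by rw [← neg_neg z, AddChar.map_neg_eq_conj, h0, map_one])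
  have : (1 - ψ (-z)) * ∑ i, ψ i * G i = 0 := by linear_combination h
  exact (mul_eq_zero.1 this).resolve_left (sub_ne_zero.2 h1.symm)

theorem invariant_of_vanishing {z : ZMod m} {G : ZMod m → ℂ}
    (h : ∀ ψ : AddChar (ZMod m) ℂ, ψ z ≠ 1 → ∑ i, ψ i * G i = 0) (i : ZMod m) : G (i + z) = G i := by
  classical
  have h1 : ∀ ψ : AddChar (ZMod m) ℂ, ψ (-i) * ∑ j, ψ j * (G (j + z) - G j) = 0 := fun ψ => by
    simp only [mul_sub, sum_sub_distrib, sum_shift]
    rcases eq_or_ne (ψ z) 1 with hz | hz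
    · rw [show ψ (-z) = 1 by rw [AddChar.map_neg_eq_conj, hz, map_one]]; ring
    · rw [h ψ hz]; ring
  have h2 := sum_eq_zero (s := univ) (f := fun ψ : AddChar (ZMod m) ℂ => ψ (-i) * ∑ j, ψ j * (G (j + z) - G j))
    fun ψ _ => h1 ψ
  simp only [mul_sum, ← mul_assoc] at h2
  rw [sum_comm] at h2
  simp only [← AddChar.map_add_eq_mul, ← sum_mul, AddChar.sum_apply_eq_ite, ite_mul, zero_mul] at h2
  rw [sum_eq_single i] at h2
  · rw [if_pos (neg_add_cancel i), mul_eq_zero] at h2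
    exact sub_eq_zero.1 (h2.resolve_left (Nat.cast_ne_zero.2 Fintype.card_ne_zero))
  · intro j _ hj
    rw [if_neg]
    exact fun h0 => hj (neg_add_eq_zero.1 h0).symm
  · simp

theorem parseval {f : GR m} (hs : ∀ i, xc f (-i) = xc f i) :
    ∑ ψ : AddChar (ZMod m) ℂ, ex ψ f * ex ψ f = (m : ℂ) * ∑ i, ((xc f i : ℂ) * xc f i) := by
  classical
  simp only [ex, sum_mul_sum]
  rw [sum_comm, mul_sum]
  refine sum_congr rfl fun i _ => ?_
  rw [sum_comm, sum_eq_single (-i)]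
  · rw [sum_congr rfl fun ψ _ => show ψ i * (xc f i : ℂ) * (ψ (-i) * (xc f (-i) : ℂ)) =
      ψ (i + -i) * ((xc f i : ℂ) * xc f (-i)) by rw [AddChar.map_add_eq_mul]; ring, ← sum_mul,
      AddChar.sum_apply_eq_ite, if_pos (add_neg_cancel i), ZMod.card, hs]
  · intro j _ hj
    rw [sum_congr rfl fun ψ _ => show ψ i * (xc f i : ℂ) * (ψ j * (xc f j : ℂ)) =
      ψ (i + j) * ((xc f i : ℂ) * xc f j) by rw [AddChar.map_add_eq_mul]; ring, ← sum_mul,
      AddChar.sum_apply_eq_ite, if_neg (fun h => hj (eq_neg_of_add_eq_zero_right h)), zero_mul]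
  · simp

open Classical in
theorem card_trivial_at (z : ZMod m) :
    addOrderOf z * (univ.filter fun ψ : AddChar (ZMod m) ℂ => ψ z = 1).card = m := by
  have hq : 0 < addOrderOf z := addOrderOf_pos z
  have h1 : ∀ ψ : AddChar (ZMod m) ℂ, ∑ k ∈ range (addOrderOf z), ψ (k • z) =
      if ψ z = 1 then (addOrderOf z : ℂ) else 0 := fun ψ => by
    simp only [AddChar.map_nsmul_eq_pow]
    split_ifs with h
    · simp [h]
    · rw [geom_sum_eq h, ← AddChar.map_nsmul_eq_pow, addOrderOf_nsmul_eq_zero, AddChar.map_zero_eq_one]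
      simp
  have h2 : ∑ ψ : AddChar (ZMod m) ℂ, ∑ k ∈ range (addOrderOf z), ψ (k • z) = (m : ℂ) := by
    rw [sum_comm, sum_eq_single 0]
    · simp [AddChar.sum_apply_eq_ite, ZMod.card]
    · intro k hk hk0
      rw [AddChar.sum_apply_eq_ite, if_neg]
      exact fun h => hk0 (Nat.eq_zero_of_dvd_of_lt (addOrderOf_dvd_of_nsmul_eq_zero h) (mem_range.1 hk))
    · intro h; exact absurd (mem_range.2 hq) h
  rw [sum_congr rfl fun ψ _ => h1 ψ, ← sum_filter, sum_const, nsmul_eq_mul] at h2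
  rw [mul_comm]
  exact_mod_cast h2

end Cfsg.Agent.H78.Dihedral
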