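import Cfsg.Agent.H78.Dihedral.Local
import Cfsg.Agent.H78.Dihedral.Eval

/-!
The eigenelement of the sign and the resulting three-class configuration.
-/

set_option autoImplicit false
set_option linter.unusedSectionVars false

namespace Cfsg.Agent.H78.Dihedral

open DihedralGroup Finset
open scoped ComplexConjugate

variable {m : ℕ} [NeZero m]

theorem deg_add (f g : GR m) : deg (f + g) = deg f + deg g := by
  simp only [deg, xc, yc, cf_add, sum_add_distrib]; ring

theorem sgn_add (f g : GR m) : sgn (f + g) = sgn f + sgn g := by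
  simp only [sgn, xc, yc, cf_add, sum_add_distrib]; ring

theorem deg_zsmul (c : ℤ) (f : GR m) : deg (c • f) = c * deg f := by
  simp only [deg, xc, yc, cf_zsmul, ← mul_sum, mul_add]

theorem sgn_zsmul (c : ℤ) (f : GR m) : sgn (c • f) = c * sgn f := by
  simp only [sgn, xc, yc, cf_zsmul, ← mul_sum, mul_sub]

/-- The sum of all non-trivial elements. -/
noncomputable def allNe (m : ℕ) [NeZero m] : GR m := mk' fun d => if d = 1 then 0 else 1

theorem deg_allNe : deg (allNe m) = 2 * (m : ℤ) - 1 := by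
  rw [PSRing.deg_eq_sum, allNe]
  simp only [cf_mk']
  rw [sum_congr rfl fun d _ => show (if d = (1 : DihedralGroup m) then (0 : ℤ) else 1) =
    1 - (if d = 1 then 1 else 0) by split_ifs <;> simp, sum_sub_distrib, sum_ite_eq', if_pos (mem_univ _),
    sum_const, card_univ, DihedralGroup.card]
  simp

theorem one_add_allNe (d : DihedralGroup m) : cf ((1 : GR m) + allNe m) d = 1 := by
  rw [cf_add, cf_one, allNe, cf_mk']; split_ifs <;> simp

theorem sgn_allNe : sgn (allNe m) = -1 := by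
  have h : sgn ((1 : GR m) + allNe m) = 0 := by simp [sgn, xc, yc, one_add_allNe, -cf_add]
  rw [sgn_add, sgn_one] at h
  linarith

namespace PSRing

variable (S : PSRing m)

/-- The sign of a reflection. -/
def eps : DihedralGroup m → ℤ
  | r _ => 1
  | sr _ => -1

theorem sgn_eq_sum (f : GR m) : sgn f = ∑ x, eps x * cf f x := by
  rw [sgn, sum_dih]; simp [eps, xc, yc, sub_eq_add_neg]

theorem ind_eq {a b : DihedralGroup m} (h : S.cl.r a b) : S.ind a = S.ind b := cf_ext fun x => by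
  rw [cf_ind, cf_ind]
  by_cases hx : S.cl.r b x
  · rw [if_pos hx, if_pos (S.cl.iseqv.trans h hx)]
  · rw [if_neg hx, if_neg fun h' => hx (S.cl.iseqv.trans (S.cl.iseqv.symm h) h')]

theorem cf_ind_self (d : DihedralGroup m) : cf (S.ind d) d = 1 := by
  rw [cf_ind, if_pos (S.cl.iseqv.refl d)]

theorem deg_ind_pos (d : DihedralGroup m) : 1 ≤ deg (S.ind d) := by
  rw [deg_eq_sum, ← S.cf_ind_self d]
  exact single_le_sum (fun y _ => S.cf_ind_nonneg d y) (mem_univ d)

theorem deg_ind_le (d : DihedralGroup m) : deg (S.ind d) ≤ 2 * m := by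
  rw [deg_eq_sum]
  refine (sum_le_sum fun x _ => show cf (S.ind d) x ≤ 1 by rw [cf_ind]; split_ifs <;> simp).trans ?_
  simp [DihedralGroup.card]

/-- The scale of the eigenelement. -/
def scale (m : ℕ) : ℤ := ((2 * m).factorial : ℤ)

theorem scale_div (d : DihedralGroup m) : deg (S.ind d) * (scale m / deg (S.ind d)) = scale m := by
  refine Int.mul_ediv_cancel' ?_
  obtain ⟨k, hk⟩ := Int.eq_ofNat_of_zero_le (le_trans zero_le_one (S.deg_ind_pos d))
  have h1 := S.deg_ind_pos d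
  have h2 := S.deg_ind_le d
  rw [hk] at h1 h2 ⊢
  exact Int.natCast_dvd_natCast.2 (Nat.dvd_factorial (by omega) (by omega))

/-- The eigenelement of the sign. -/
noncomputable def eig : GR m := mk' fun d => sgn (S.ind d) * (scale m / deg (S.ind d))

theorem mem_eig : S.Mem S.eig := fun a b h => by rw [eig, cf_mk', cf_mk', S.ind_eq h]

theorem cf_eig_one : cf S.eig 1 = scale m := by
  classical
  have e : S.ind 1 = 1 := cf_ext fun x => by
    rw [cf_ind, cf_one]
    by_cases hx : x = 1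
    · subst hx; rw [if_pos (S.cl.iseqv.refl _), if_pos rfl]
    · rw [if_neg fun h => hx (S.one_cl x h), if_neg hx]
  rw [eig, cf_mk', e, sgn_one, deg_one, one_mul, Int.ediv_one]

theorem pair_eig {h : GR m} (hh : S.Mem h) : ∑ x, cf S.eig x * cf h x = scale m * sgn h := by
  classical
  calc ∑ x, cf S.eig x * cf h x
      = ∑ x, ∑ y, eps y * cf (S.ind y) x * (scale m / deg (S.ind y)) * cf h y := by
        refine sum_congr rfl fun x _ => ?_
        rw [eig, cf_mk', sgn_eq_sum, sum_mul, sum_mul]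
        refine sum_congr rfl fun y _ => ?_
        by_cases hxy : S.cl.r x y
        · rw [← S.ind_eq hxy, cf_ind_self, cf_ind, if_pos hxy, hh x y hxy]
        · rw [cf_ind, cf_ind, if_neg hxy, if_neg fun h' => hxy (S.cl.iseqv.symm h')]
          ring
    _ = ∑ y, eps y * cf h y * scale m := by
        rw [sum_comm]
        refine sum_congr rfl fun y _ => ?_
        rw [sum_congr rfl fun x _ => show eps y * cf (S.ind y) x * (scale m / deg (S.ind y)) * cf h y =
          cf (S.ind y) x * ((eps y * cf h y) * (scale m / deg (S.ind y))) by ring, ← sum_mul, ← deg_eq_sum,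
          mul_left_comm, S.scale_div]
    _ = scale m * sgn h := by rw [sgn_eq_sum, ← sum_mul, mul_comm]

theorem eig_mul {f : GR m} (hf : S.Mem f) : S.eig * f = sgn f • S.eig := by
  classical
  refine cf_ext fun d => ?_
  have hk : (deg (S.ind d) : ℤ) ≠ 0 := by have := S.deg_ind_pos d; omega
  have e : ∀ k : GR m, S.Mem k → ∑ x, cf k x * cf (S.ind d) x = cf k d * deg (S.ind d) := fun k hkm => by
    rw [deg_eq_sum, mul_sum]
    refine sum_congr rfl fun x _ => ?_
    rw [cf_ind]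
    by_cases hx : S.cl.r d x
    · rw [if_pos hx, hkm d x hx]
    · rw [if_neg hx, mul_zero, mul_zero]
  refine mul_right_cancel₀ hk ?_
  rw [← e _ (S.mul_mem _ _ S.mem_eig hf), ← e _ (S.mem_zsmul _ S.mem_eig)]
  have h1 : ∑ x, cf (S.eig * f) x * cf (S.ind d) x = ∑ y, cf S.eig y * cf (S.ind d * f) y := by
    simp only [cf_mul, sum_mul, mul_sum]
    rw [sum_comm]
    refine sum_congr rfl fun y _ => sum_congr rfl fun x _ => ?_
    rw [← S.cf_inv hf (y⁻¹ * x), mul_inv_rev, inv_inv]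
    ring
  rw [h1, S.pair_eig (S.mul_mem _ _ (S.mem_ind d) hf), sgn_mul]
  simp only [cf_zsmul, mul_assoc]
  rw [← mul_sum, S.pair_eig (S.mem_ind d)]
  ring

theorem ex_real {f : GR m} (hf : S.Mem f) (ψ : AddChar (ZMod m) ℂ) : conj (ex ψ f) = ex ψ f :=
  conj_ex (S.xc_neg hf)

variable (hrat : ∀ f, S.Mem f → Rat' f) {p : ℕ} {z : ZMod m}
include hrat

theorem ex_mem (hp : p.Prime) (hm : m ≠ 1) (hpm : p ∣ m)
    (hcase : Odd p ∨ ∀ i : ZMod m, PFree p i → i = 0) (hz : p • z = 0) (hz0 : z ≠ 0) {f : GR m} (hf : S.Mem f)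
    {ψ : AddChar (ZMod m) ℂ} (hψ : ψ z ≠ 1) : ex ψ f = (cf f 1 : ℂ) - (cf f (r z) : ℂ) := by
  classical
  set H : ZMod m → ℂ := fun i => if i = 0 then (xc f z : ℂ) else (xc f i : ℂ) with hH
  have hP : ∀ i, p • i = 0 → H i = (xc f z : ℂ) := fun i hi => by
    rw [hH]
    dsimp only
    split_ifs with h
    · rfl
    · have o : ∀ w : ZMod m, p • w = 0 → w ≠ 0 → addOrderOf w = p := fun w hw hw0 =>
        ((Nat.dvd_prime hp).1 (addOrderOf_dvd_of_nsmul_eq_zero hw)).resolve_left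
          fun e => hw0 (AddMonoid.addOrderOf_eq_one_iff.1 e)
      rw [hrat f hf i z (by rw [o i hi h, o z hz hz0])]
  have hinv : ∀ i, H (i + z) = H i := fun i => by
    by_cases hi : p • i = 0
    · rw [hP i hi, hP (i + z) (by rw [nsmul_add, hi, hz, add_zero])]
    · have h1 : i ≠ 0 := fun e => hi (by rw [e, nsmul_zero])
      have h2 : i + z ≠ 0 := fun e => hi (by
        have := congrArg (p • ·) e
        simpa [nsmul_add, hz] using this)
      simp only [hH, if_neg h1, if_neg h2, xc]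
      rw [hf _ _ (S.cl_translate hrat hp hm hpm hcase hi hz)]
  have h0 := sum_eq_zero_of_invariant hψ H hinv
  have hdiff : ∑ i, ψ i * ((xc f i : ℂ) - H i) = (xc f 0 : ℂ) - xc f z := by
    rw [sum_eq_single 0]
    · simp [hH]
    · intro i _ hi; simp [hH, hi]
    · simp
  simp only [mul_sub, sum_sub_distrib] at hdiff
  rw [h0, sub_zero] at hdiff
  rw [ex, hdiff, xc, xc, ← one_def]

theorem eq_of_vanish (hz0 : z ≠ 0) {f : GR m} (hf : S.Mem f)
    (h : ∀ ψ : AddChar (ZMod m) ℂ, ψ z ≠ 1 → ex ψ f = 0 ∧ ey ψ f = 0) (d d' : DihedralGroup m) :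
    cf f d = cf f d' := by
  refine S.eq_of_invariant hf (z := r z) (by simpa [one_def, -r_zero] using hz0) (fun x => ?_) d d'
  cases x with
  | r i =>
    rw [r_mul_r]
    exact_mod_cast invariant_of_vanishing (G := fun i => (xc f i : ℂ)) (fun ψ hψ => (h ψ hψ).1) i
  | sr i =>
    rw [sr_mul_r]
    exact_mod_cast invariant_of_vanishing (G := fun i => (yc f i : ℂ)) (fun ψ hψ => (h ψ hψ).2) i

/-- There is a phase turning the sign and the rotation value into the reflection value. -/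
theorem exists_phase (hp : p.Prime) (hm : m ≠ 1) (hpm : p ∣ m)
    (hcase : Odd p ∨ ∀ i : ZMod m, PFree p i → i = 0) (hz : p • z = 0) (hz0 : z ≠ 0)
    {a b : DihedralGroup m} (ha : a ≠ 1) (hb : b ≠ 1) (hab : ¬ S.cl.r a b)
    {ψ : AddChar (ZMod m) ℂ} (hψ : ψ z ≠ 1) :
    ∃ φ : ℂ, conj φ * φ = 1 ∧ ∀ f, S.Mem f → ey ψ f = ((sgn f : ℂ) - ex ψ f) * φ := by
  classical
  set g := S.eig with hg
  set e : ℤ := cf g 1 - cf g (r z) with he
  have hex : ∀ χ : AddChar (ZMod m) ℂ, χ z ≠ 1 → ex χ g = (e : ℂ) := fun χ hχ => by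
    rw [S.ex_mem hrat hp hm hpm hcase hz hz0 S.mem_eig hχ, he]; push_cast; rfl
  have hgg : ∀ χ : AddChar (ZMod m) ℂ, χ z ≠ 1 →
      (e : ℂ) * e + conj (ey χ g) * ey χ g = (sgn g : ℂ) * e ∧
      2 * (e : ℂ) * ey χ g = (sgn g : ℂ) * ey χ g := fun χ hχ => by
    have h1 := congrArg (ex χ) (S.eig_mul S.mem_eig)
    have h2 := congrArg (ey χ) (S.eig_mul S.mem_eig)
    rw [← hg, ex_mul, ex_zsmul, hex χ hχ] at h1
    rw [← hg, ey_mul, ey_zsmul, hex χ hχ, map_intCast] at h2
    exact ⟨h1, by linear_combination h2⟩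
  obtain ⟨χ₀, hχ₀, hy₀⟩ : ∃ χ : AddChar (ZMod m) ℂ, χ z ≠ 1 ∧ ey χ g ≠ 0 := by
    by_contra hc
    push Not at hc
    have hmem : S.Mem (g - e • 1) := S.mem_sub S.mem_eig (S.mem_zsmul _ S.mem_one)
    have hconst := S.eq_of_vanish hrat hz0 hmem fun χ hχ => by
      rw [sub_eq_add_neg, ← neg_smul, ex_add, ey_add, ex_zsmul, ey_zsmul, hex χ hχ, ex_one, ey_one, hc χ hχ]
      simp
    have hcon : ∀ d, d ≠ 1 → cf g d = cf g a := fun d hd => by
      have := hconst d a
      rwa [cf_sub, cf_sub, cf_zsmul, cf_zsmul, cf_one, cf_one, if_neg hd, if_neg ha, mul_zero, sub_zero,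
        sub_zero] at this
    have hall : S.Mem (allNe m) := fun x y hxy => by
      simp only [allNe, cf_mk']
      have : x = 1 ↔ y = 1 :=
        ⟨fun hx => S.one_cl y (hx ▸ hxy), fun hy => S.one_cl x (S.cl.iseqv.symm (hy ▸ hxy))⟩
      simp [this]
    have h1 := S.pair_eig hall
    rw [sgn_allNe, sum_congr rfl fun x _ => show cf S.eig x * cf (allNe m) x = cf g a * cf (allNe m) x by
      by_cases hx : x = 1
      · simp [allNe, hx]
      · rw [hcon x hx], ← mul_sum, ← deg_eq_sum, deg_allNe] at h1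
    have h2 : cf g a = sgn (S.ind a) * (scale m / deg (S.ind a)) := by rw [hg, eig, cf_mk']
    have h3 := S.scale_div a
    have hN : (0 : ℤ) < scale m := by unfold scale; exact_mod_cast Nat.factorial_pos _
    have h4 : sgn (S.ind a) * (2 * m - 1) = -deg (S.ind a) := by
      refine mul_left_cancel₀ hN.ne' ?_
      linear_combination deg (S.ind a) * h1 - (deg (S.ind a) * (2 * (m : ℤ) - 1)) * h2 -
        (sgn (S.ind a) * (2 * (m : ℤ) - 1)) * h3
    have h5 := S.deg_ind_pos a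
    have hm1 : (1 : ℤ) ≤ m := by exact_mod_cast NeZero.one_le
    have h6 : deg (S.ind a) ≤ deg (allNe m) - 1 := by
      rw [deg_eq_sum, deg_eq_sum, le_sub_iff_add_le, ← sum_ite_eq' univ b (fun _ => (1 : ℤ)) |>.trans
        (if_pos (mem_univ b)), ← sum_add_distrib]
      refine sum_le_sum fun x _ => ?_
      rw [cf_ind, allNe, cf_mk']
      by_cases hx : S.cl.r a x
      · rw [if_pos hx, if_neg (fun e : x = b => hab (e ▸ hx)),
          if_neg (fun e : x = 1 => ha (S.one_cl a (S.cl.iseqv.symm (e ▸ hx))))]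
        simp
      · rw [if_neg hx]
        by_cases hxb : x = b
        · rw [if_pos hxb, if_neg (hxb ▸ hb)]; simp
        · rw [if_neg hxb]; split_ifs <;> simp
    rw [deg_allNe] at h6
    rcases le_or_gt 0 (sgn (S.ind a)) with hs | hs
    · nlinarith [mul_nonneg hs (show (0 : ℤ) ≤ 2 * m - 1 by omega)]
    · nlinarith [mul_le_mul_of_nonneg_right (show (1 : ℤ) ≤ -sgn (S.ind a) by omega)
        (show (0 : ℤ) ≤ 2 * m - 1 by omega)]
  have hk : (sgn g : ℂ) = 2 * e := (mul_right_cancel₀ hy₀ (hgg χ₀ hχ₀).2).symm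
  have hsq : ∀ χ : AddChar (ZMod m) ℂ, χ z ≠ 1 → conj (ey χ g) * ey χ g = (e : ℂ) * e := fun χ hχ => by
    have := (hgg χ hχ).1
    rw [hk] at this
    linear_combination this
  have he0 : (e : ℂ) ≠ 0 := fun h0 => hy₀ (by
    have := hsq χ₀ hχ₀
    rw [h0, mul_zero, mul_eq_zero] at this
    rcases this with h | h
    · exact (map_eq_zero _).1 h
    · exact h)
  refine ⟨ey ψ g / e, ?_, fun f hf => ?_⟩
  · rw [map_div₀, map_intCast, div_mul_div_comm, hsq ψ hψ, div_self (mul_ne_zero he0 he0)]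
  · have h1 := congrArg (ey ψ) (S.eig_mul hf)
    rw [ey_mul, ey_zsmul, ← hg, hex ψ hψ, map_intCast] at h1
    field_simp
    linear_combination h1

/-- Exactly one class misses the elements of order `p`, and it is a difference set. -/
theorem three_classes (hp : p.Prime) (hm : m ≠ 1) (hpm : p ∣ m)
    (hcase : Odd p ∨ ∀ i : ZMod m, PFree p i → i = 0) (hz : p • z = 0) (hz0 : z ≠ 0)
    {u : DihedralGroup m} (hu1 : u ≠ 1) (huz : ¬ S.cl.r u (r z)) :
    deg (S.ind u) * (2 * m - deg (S.ind u)) = sgn (S.ind u) * sgn (S.ind u) * (2 * m - 1) ∧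
    deg (S.ind u) < 2 * m ∧ sgn (S.ind u) ≠ 0 ∧
    (∀ i, cf (S.ind u * S.ind u) i = if i = 1 then deg (S.ind u) else
      deg (S.ind u) - sgn (S.ind u) * sgn (S.ind u)) := by
  classical
  have hrz : (r z : DihedralGroup m) ≠ 1 := by simpa [one_def, -r_zero] using hz0
  obtain ⟨ψ₀, hψ₀⟩ := AddChar.exists_apply_ne_zero.2 hz0
  have hX : ∀ x, x ≠ 1 → ¬ S.cl.r x (r z) → ∀ ψ : AddChar (ZMod m) ℂ, ψ z ≠ 1 → ex ψ (S.ind x) = 0 :=
    fun x hx hxz ψ hψ => by
      rw [S.ex_mem hrat hp hm hpm hcase hz hz0 (S.mem_ind x) hψ, cf_ind, cf_ind,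
        if_neg fun h => hx (S.one_cl x (S.cl.iseqv.symm h)), if_neg hxz]
      simp
  have hXM : ∀ ψ : AddChar (ZMod m) ℂ, ψ z ≠ 1 → ex ψ (S.ind (r z)) = -1 := fun ψ hψ => by
    rw [S.ex_mem hrat hp hm hpm hcase hz hz0 (S.mem_ind _) hψ, cf_ind, cf_ind,
      if_neg fun h => hrz (S.one_cl _ (S.cl.iseqv.symm h)), if_pos (S.cl.iseqv.refl _)]
    simp
  have hphase := fun ψ (hψ : ψ z ≠ 1) => S.exists_phase hrat hp hm hpm hcase hz hz0 hu1 hrz huz (ψ := ψ) hψ
  obtain ⟨φ, hφ, hY⟩ := hphase ψ₀ hψ₀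
  have hh1 : ∀ x y, ¬ S.cl.r x y → cf (S.ind x * S.ind y) 1 = 0 := fun x y hxy => by
    rw [cf_mul]
    refine sum_eq_zero fun w _ => ?_
    rw [mul_one, S.cf_inv (S.mem_ind y), cf_ind, cf_ind]
    by_cases hw : S.cl.r x w
    · rw [if_pos hw, if_neg fun h => hxy (S.cl.iseqv.trans hw (S.cl.iseqv.symm h))]; simp
    · rw [if_neg hw, zero_mul]
  have hhz : ∀ x y, 0 ≤ cf (S.ind x * S.ind y) (r z) := fun x y => by
    rw [cf_mul]; exact sum_nonneg fun w _ => mul_nonneg (S.cf_ind_nonneg _ _) (S.cf_ind_nonneg _ _)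
  have hpair : ∀ x y, x ≠ 1 → ¬ S.cl.r x (r z) → y ≠ 1 → ¬ S.cl.r y (r z) → ¬ S.cl.r x y →
      sgn (S.ind x) * sgn (S.ind y) ≤ 0 := fun x y hx hxz hy hyz hxy => by
    have h1 := S.ex_mem hrat hp hm hpm hcase hz hz0 (S.mul_mem _ _ (S.mem_ind x) (S.mem_ind y)) hψ₀
    rw [ex_mul, hX x hx hxz ψ₀ hψ₀, hX y hy hyz ψ₀ hψ₀, hY _ (S.mem_ind x), hY _ (S.mem_ind y), hh1 x y hxy,
      hX x hx hxz ψ₀ hψ₀, hX y hy hyz ψ₀ hψ₀, map_mul, map_sub, map_intCast, map_zero] at h1
    have h2 : ((sgn (S.ind x) * sgn (S.ind y) : ℤ) : ℂ) = ((-cf (S.ind x * S.ind y) (r z) : ℤ) : ℂ) := by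
      push_cast at h1 ⊢
      linear_combination h1 - (sgn (S.ind x) : ℂ) * sgn (S.ind y) * hφ
    have := hhz x y
    have h3 := Int.cast_injective h2
    omega
  have hM : ∀ x, x ≠ 1 → ¬ S.cl.r x (r z) → sgn (S.ind x) * (sgn (S.ind (r z)) + 1) ≤ 0 := fun x hx hxz => by
    have h1 := S.ex_mem hrat hp hm hpm hcase hz hz0 (S.mul_mem _ _ (S.mem_ind x) (S.mem_ind (r z))) hψ₀
    rw [ex_mul, hX x hx hxz ψ₀ hψ₀, hY _ (S.mem_ind x), hY _ (S.mem_ind (r z)), hh1 x _ hxz,
      hX x hx hxz ψ₀ hψ₀, hXM ψ₀ hψ₀, map_mul, map_sub, map_intCast, map_zero] at h1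
    have h2 : ((sgn (S.ind x) * (sgn (S.ind (r z)) + 1) : ℤ) : ℂ) =
        ((-cf (S.ind x * S.ind (r z)) (r z) : ℤ) : ℂ) := by
      push_cast at h1 ⊢
      linear_combination h1 - (sgn (S.ind x) : ℂ) * (sgn (S.ind (r z)) + 1) * hφ
    have := hhz x (r z)
    have h3 := Int.cast_injective h2
    omega
  have hne0 : ∀ x, x ≠ 1 → ¬ S.cl.r x (r z) → sgn (S.ind x) ≠ 0 := fun x hx hxz h0 => by
    have := S.eq_of_vanish hrat hz0 (S.mem_ind x) (fun ψ hψ => by
      obtain ⟨φ', -, hY'⟩ := hphase ψ hψ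
      refine ⟨hX x hx hxz ψ hψ, ?_⟩
      rw [hY' _ (S.mem_ind x), h0, hX x hx hxz ψ hψ]; simp) x 1
    rw [cf_ind_self, cf_ind, if_neg fun h => hx (S.one_cl x (S.cl.iseqv.symm h))] at this
    exact one_ne_zero this
  have hcls : ∀ x, x ≠ 1 → S.cl.r u x ∨ S.cl.r (r z) x := by
    intro v hv
    by_contra hc
    push Not at hc
    obtain ⟨huv, hvz'⟩ := hc
    have hvz : ¬ S.cl.r v (r z) := fun h => hvz' (S.cl.iseqv.symm h)
    have hsuv := hpair u v hu1 huz hv hvz huv
    have hrest : ∀ w, w ≠ 1 → S.cl.r u w ∨ S.cl.r v w ∨ S.cl.r (r z) w := fun w hw => by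
      by_contra hc'
      push Not at hc'
      obtain ⟨h1, h2, h3⟩ := hc'
      have hwz : ¬ S.cl.r w (r z) := fun h => h3 (S.cl.iseqv.symm h)
      have a1 := hpair u w hu1 huz hw hwz h1
      have a2 := hpair v w hv hvz hw hwz h2
      have b1 := hne0 u hu1 huz
      have b2 := hne0 v hv hvz
      have b3 := hne0 w hw hwz
      rcases lt_or_gt_of_ne b1 with c1 | c1 <;> rcases lt_or_gt_of_ne b2 with c2 | c2 <;>
        rcases lt_or_gt_of_ne b3 with c3 | c3 <;> nlinarith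
    have hsum : allNe m = S.ind u + S.ind v + S.ind (r z) := cf_ext fun x => by
      rw [cf_add, cf_add, allNe, cf_mk', cf_ind, cf_ind, cf_ind]
      by_cases hx : x = 1
      · subst hx
        rw [if_neg fun h => hu1 (S.one_cl u (S.cl.iseqv.symm h)), if_neg fun h => hv (S.one_cl v (S.cl.iseqv.symm h)),
          if_neg fun h => hrz (S.one_cl _ (S.cl.iseqv.symm h))]
        simp
      · rw [if_neg hx]
        rcases hrest x hx with h | h | h
        · rw [if_pos h, if_neg fun h' => huv (S.cl.iseqv.trans h (S.cl.iseqv.symm h')),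
            if_neg fun h' => huz (S.cl.iseqv.trans h (S.cl.iseqv.symm h'))]; simp
        · rw [if_neg fun h' => huv (S.cl.iseqv.trans h' (S.cl.iseqv.symm h)), if_pos h,
            if_neg fun h' => hvz (S.cl.iseqv.trans h (S.cl.iseqv.symm h'))]; simp
        · rw [if_neg fun h' => huz (S.cl.iseqv.trans h' (S.cl.iseqv.symm h)),
            if_neg fun h' => hvz (S.cl.iseqv.trans h' (S.cl.iseqv.symm h)), if_pos h]; simp
    have hs := congrArg sgn hsum
    rw [sgn_allNe, sgn_add, sgn_add] at hs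
    have a1 := hM u hu1 huz
    have a2 := hM v hv hvz
    have b1 := hne0 u hu1 huz
    have b2 := hne0 v hv hvz
    have h0 : sgn (S.ind u) + sgn (S.ind v) = 0 := by
      rcases lt_or_gt_of_ne b1 with c1 | c1 <;> rcases lt_or_gt_of_ne b2 with c2 | c2 <;> nlinarith
    have := S.eq_of_vanish hrat hz0 (S.mem_add (S.mem_ind u) (S.mem_ind v)) (fun ψ hψ => by
      obtain ⟨φ', -, hY'⟩ := hphase ψ hψ
      rw [ex_add, ey_add, hY' _ (S.mem_ind u), hY' _ (S.mem_ind v), hX u hu1 huz ψ hψ, hX v hv hvz ψ hψ]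
      refine ⟨by simp, ?_⟩
      rw [sub_zero, sub_zero, ← add_mul, ← Int.cast_add, h0]
      simp) u 1
    rw [cf_add, cf_add, cf_ind_self, cf_ind, cf_ind, cf_ind, if_neg fun h => huv (S.cl.iseqv.symm h),
      if_neg fun h => hu1 (S.one_cl u (S.cl.iseqv.symm h)),
      if_neg fun h => hv (S.one_cl v (S.cl.iseqv.symm h))] at this
    norm_num at this
  have hsum : allNe m = S.ind u + S.ind (r z) := cf_ext fun x => by
    rw [cf_add, allNe, cf_mk', cf_ind, cf_ind]
    by_cases hx : x = 1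
    · subst hx
      rw [if_neg fun h => hu1 (S.one_cl u (S.cl.iseqv.symm h)), if_neg fun h => hrz (S.one_cl _ (S.cl.iseqv.symm h))]
      simp
    · rw [if_neg hx]
      rcases hcls x hx with h | h
      · rw [if_pos h, if_neg fun h' => huz (S.cl.iseqv.trans h (S.cl.iseqv.symm h'))]; simp
      · rw [if_neg fun h' => huz (S.cl.iseqv.trans h' (S.cl.iseqv.symm h)), if_pos h]; simp
  have hs : -1 = sgn (S.ind u) + sgn (S.ind (r z)) := by rw [← sgn_allNe (m := m), hsum, sgn_add]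
  have hd : (2 * (m : ℤ) - 1) = deg (S.ind u) + deg (S.ind (r z)) := by rw [← deg_allNe, hsum, deg_add]
  set f := S.ind u with hf
  have hfm : S.Mem f := S.mem_ind u
  set h := f * f with hh
  have hhm : S.Mem h := S.mul_mem f f hfm hfm
  have hh0 : cf h 1 = deg f := by
    rw [hh, cf_mul, deg_eq_sum]
    refine sum_congr rfl fun w _ => ?_
    rw [mul_one, S.cf_inv hfm, hf, cf_ind]
    split_ifs <;> simp
  have hdec : h = deg f • (1 : GR m) + cf h (r z) • S.ind (r z) + cf h u • f := cf_ext fun x => by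
    rw [cf_add, cf_add, cf_zsmul, cf_zsmul, cf_zsmul, cf_one, hf, cf_ind, cf_ind]
    by_cases hx : x = 1
    · subst hx
      rw [hh0, hf, if_pos rfl, if_neg fun h' => hrz (S.one_cl _ (S.cl.iseqv.symm h')),
        if_neg fun h' => hu1 (S.one_cl u (S.cl.iseqv.symm h'))]
      simp
    · rw [if_neg hx]
      rcases hcls x hx with h' | h'
      · rw [if_neg fun h'' => huz (S.cl.iseqv.trans h' (S.cl.iseqv.symm h'')), if_pos h', hhm u x h']; simp
      · rw [if_pos h', if_neg fun h'' => huz (S.cl.iseqv.trans h'' (S.cl.iseqv.symm h')), hhm _ x h']; simp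
  have e1 : deg f - cf h (r z) = sgn f * sgn f := by
    have h1 := congrArg (ex ψ₀) hdec
    rw [hh, ex_mul, ex_add, ex_add, ex_zsmul, ex_zsmul, ex_zsmul, ex_one, hX u hu1 huz ψ₀ hψ₀, hXM ψ₀ hψ₀,
      hY _ hfm, hX u hu1 huz ψ₀ hψ₀, map_mul, map_sub, map_intCast, map_zero] at h1
    have h2 : ((deg f - cf h (r z) : ℤ) : ℂ) = ((sgn f * sgn f : ℤ) : ℂ) := by
      push_cast at h1 ⊢
      linear_combination -h1 + (sgn f : ℂ) * sgn f * hφ
    exact Int.cast_injective h2
  have e2 : cf h (r z) = cf h u := by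
    have h1 := congrArg (ey ψ₀) hdec
    rw [hh, ey_mul, ey_add, ey_add, ey_zsmul, ey_zsmul, ey_zsmul, ey_one, hY _ hfm, hY _ (S.mem_ind _),
      hX u hu1 huz ψ₀ hψ₀, hXM ψ₀ hψ₀, map_zero] at h1
    have hs' : (sgn (S.ind (r z)) : ℂ) + 1 = -(sgn f : ℂ) := by
      have : sgn (S.ind (r z)) + 1 = -sgn f := by rw [hf]; linarith
      exact_mod_cast this
    have h2 : ((cf h (r z) : ℂ) - cf h u) * ((sgn f : ℂ) * φ) = 0 := by
      linear_combination h1 + (cf h (r z) : ℂ) * φ * hs'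
    have hnz : ((sgn f : ℂ) * φ) ≠ 0 := mul_ne_zero (Int.cast_ne_zero.2 (hne0 u hu1 huz))
      fun h0 => by rw [h0, mul_zero] at hφ; exact zero_ne_one hφ
    exact_mod_cast sub_eq_zero.1 ((mul_eq_zero.1 h2).resolve_right hnz)
  have hdeg := congrArg deg hdec
  rw [hh, deg_mul, deg_add, deg_add, deg_zsmul, deg_zsmul, deg_zsmul, deg_one, ← hh] at hdeg
  rw [← e2] at hdeg
  refine ⟨?_, ?_, hne0 u hu1 huz, fun i => ?_⟩
  · linear_combination -hdeg + (2 * (m : ℤ) - 1) * e1 + (cf h (r z)) * hd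
  · have := S.deg_ind_pos (r z); linarith
  · by_cases hi : i = 1
    · rw [if_pos hi, hi, hh0]
    · rw [if_neg hi]
      rcases hcls i hi with h' | h'
      · rw [← hhm u i h', ← e2]; linarith
      · rw [← hhm _ i h']; linarith

end PSRing

end Cfsg.Agent.H78.Dihedral
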