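import Cfsg.Agent.H78.Dihedral.Rational

/-!
A rational primitive Schur ring over a dihedral group, modulo powers of a prime dividing the degree.
-/

set_option autoImplicit false
set_option linter.unusedSectionVars false

namespace Cfsg.Agent.H78.Dihedral

open DihedralGroup Finset

variable {m : ℕ} [NeZero m]

/-- Elements of order prime to `p`. -/
def PFree (p : ℕ) (i : ZMod m) : Prop := ¬ p ∣ addOrderOf i

theorem pfree_zero {p : ℕ} (hp : p.Prime) : PFree p (0 : ZMod m) := by
  rw [PFree, addOrderOf_zero]; exact hp.not_dvd_one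

theorem PFree.add {p : ℕ} (hp : p.Prime) {i j : ZMod m} (hi : PFree p i) (hj : PFree p j) : PFree p (i + j) :=
  fun h => (hp.dvd_mul.1 (h.trans ((AddCommute.all i j).addOrderOf_add_dvd_lcm.trans
    (Nat.lcm_dvd_mul _ _)))).elim hi hj

theorem PFree.nsmul {p : ℕ} {i : ZMod m} (hi : PFree p i) (n : ℕ) : PFree p (n • i) := fun h =>
  hi (h.trans (addOrderOf_dvd_of_nsmul_eq_zero (by rw [← mul_nsmul', mul_comm, mul_nsmul', addOrderOf_nsmul_eq_zero,
    nsmul_zero])))

theorem pfree_pow_smul {p : ℕ} (hp : p.Prime) (i : ZMod m) : PFree p (p ^ m.factorization p • i) := fun h => by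
  refine Nat.not_dvd_ordCompl hp (NeZero.ne m) (h.trans (addOrderOf_dvd_of_nsmul_eq_zero ?_))
  rw [smul_smul, mul_comm, Nat.ordProj_mul_ordCompl_eq_self, nsmul_eq_mul, ZMod.natCast_self, zero_mul]

theorem eq_zero_of_pfree {p : ℕ} (hp : p.Prime) {k : ℕ} {i : ZMod m} (hi : PFree p i) (h : p ^ k • i = 0) :
    i = 0 := by
  obtain ⟨e, -, he⟩ := (Nat.dvd_prime_pow hp).1 (addOrderOf_dvd_of_nsmul_eq_zero h)
  rcases Nat.eq_zero_or_pos e with rfl | he0
  · rwa [pow_zero, AddMonoid.addOrderOf_eq_one_iff] at he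
  · exact absurd (he ▸ dvd_pow_self p he0.ne') hi

theorem addOrderOf_nsmul_pfree {p : ℕ} (hp : p.Prime) {i : ZMod m} (hi : PFree p i) :
    addOrderOf (p • i) = addOrderOf i := by
  rw [addOrderOf_nsmul, Nat.gcd_comm, (hp.coprime_iff_not_dvd.2 hi).gcd_eq_one, Nat.div_one]

theorem exists_mul_modEq_one {p o : ℕ} (hp : p.Prime) (h : ¬ p ∣ o) : ∃ t, p * t ≡ 1 [MOD o] := by
  have hc := (hp.coprime_iff_not_dvd.2 h).gcd_eq_one
  rcases Nat.lt_or_ge 1 o with ho | ho
  · obtain ⟨t, -, ht⟩ := Nat.exists_mul_mod_eq_gcd (k := o) (n := p) (by rw [hc]; exact ho)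
    exact ⟨t, by rw [Nat.ModEq, ht, hc, Nat.mod_eq_of_lt ho]⟩
  · interval_cases o
    · exact absurd (dvd_zero p) h
    · exact ⟨0, Nat.modEq_one⟩

/-- The rotation part is supported modulo `q` at elements of order prime to `p`. -/
def Supp (p : ℕ) (q : ℤ) (f : GR m) : Prop := ∀ i, ¬ PFree p i → q ∣ xc f i

theorem Supp.mul {p : ℕ} (hp : p.Prime) {q : ℤ} {f g : GR m} (hf : Supp p q f) (hg : Supp p q g)
    (hA : PureA f) : Supp p q (f * g) := by
  intro i hi
  rw [xc_mul, sum_eq_zero (f := fun j => yc f j * _) (fun j _ => by rw [hA j, zero_mul]), add_zero]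
  refine dvd_sum fun j _ => ?_
  by_cases hj : PFree p j
  · refine Dvd.dvd.mul_left (hg _ fun h => hi ?_) _
    simpa using hj.add hp h
  · exact Dvd.dvd.mul_right (hf _ hj) _

theorem supp_one {p : ℕ} (hp : p.Prime) (q : ℤ) : Supp p q (1 : GR m) := fun i hi => by
  classical
  rw [xc, cf_one, if_neg fun h => hi ?_]
  · exact dvd_zero q
  · rw [one_def, r.injEq] at h; subst h; exact pfree_zero hp

theorem Supp.pow {p : ℕ} (hp : p.Prime) {q : ℤ} {f : GR m} (hf : Supp p q f) (hA : PureA f) (n : ℕ) :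
    Supp p q (f ^ n) := by
  induction n with
  | zero => simpa using supp_one hp q
  | succ n ih => rw [pow_succ]; exact ih.mul hp hf (hA.pow n)

theorem Dvd'.mul_mul {a b : ℤ} {f g : GR m} (hf : Dvd' a f) (hg : Dvd' b g) : Dvd' (a * b) (f * g) :=
  fun d => by rw [cf_mul]; exact dvd_sum fun y _ => mul_dvd_mul (hf y) (hg _)

theorem Dvd'.sum {q : ℤ} {ι : Type*} (s : Finset ι) {f : ι → GR m} (h : ∀ i ∈ s, Dvd' q (f i)) :
    Dvd' q (∑ i ∈ s, f i) := fun d => by rw [cf_sum]; exact dvd_sum fun i hi => h i hi d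

theorem dvd'_natCast_mul (p : ℕ) (f : GR m) : Dvd' (p : ℤ) ((p : GR m) * f) := fun d => by
  rw [← nsmul_eq_mul, ← natCast_zsmul, cf_zsmul]; exact dvd_mul_right _ _

theorem yc_eq_cf (f : GR m) (i : ZMod m) : yc f i = cf f (sr i) := rfl

/-- A `p`-th power gains one power of `p`. -/
theorem supp_pow_succ {p : ℕ} (hp : p.Prime) {j : ℕ} (hj : j ≠ 0) {u : GR m} (hu : PureA u)
    (h : Supp p ((p : ℤ) ^ j) u) : Supp p ((p : ℤ) ^ (j + 1)) (u ^ p) := by
  classical
  set u₁ : GR m := mk' fun d => match d with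
    | r i => if PFree p i then xc u i else 0
    | sr _ => 0 with hu₁
  have hu₁A : PureA u₁ := fun i => by simp [hu₁, yc]
  have hu₁S : Supp p ((p : ℤ) ^ (j + 1)) u₁ := fun i hi => by simp [hu₁, xc, hi]
  have hd : Dvd' ((p : ℤ) ^ j) (u - u₁) := fun d => by
    cases d with
    | r i =>
      rw [cf_sub, ← xc, ← xc]
      by_cases hi : PFree p i
      · simp [hu₁, xc, hi]
      · simpa [hu₁, xc, hi] using h i hi
    | sr i => rw [cf_sub, ← yc_eq_cf, ← yc_eq_cf, hu i, hu₁A i, sub_zero]; exact dvd_zero _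
  have hd1 : Dvd' (p : ℤ) (u - u₁) := fun d => (dvd_pow_self (p : ℤ) hj).trans (hd d)
  have hG : Dvd' (p : ℤ) (∑ i ∈ range p, u ^ i * u₁ ^ (p - 1 - i)) := by
    have e : ∑ i ∈ range p, u ^ i * u₁ ^ (p - 1 - i) =
        ∑ i ∈ range p, (u ^ i - u₁ ^ i) * u₁ ^ (p - 1 - i) + (p : GR m) * u₁ ^ (p - 1) := by
      rw [show (p : GR m) * u₁ ^ (p - 1) = ∑ i ∈ range p, u₁ ^ i * u₁ ^ (p - 1 - i) from ?_, ← sum_add_distrib]
      · exact sum_congr rfl fun i _ => by rw [sub_mul, sub_add_cancel]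
      · rw [sum_congr rfl fun i hi => (pow_add u₁ i (p - 1 - i)).symm.trans
          (by rw [Nat.add_sub_cancel' (by have := mem_range.1 hi; omega)])]
        simp
    rw [e]
    exact (Dvd'.sum _ fun i _ => (hd1.pow_sub i).mul _).add (dvd'_natCast_mul p _)
  have hdiff : Dvd' ((p : ℤ) ^ (j + 1)) (u ^ p - u₁ ^ p) := by
    rw [← (hu.commute hu₁A).mul_geom_sum₂ p, pow_succ]
    exact hd.mul_mul hG
  intro i hi
  have := dvd_add (hdiff (r i)) (hu₁S.pow hp hu₁A p i hi)
  rwa [cf_sub, ← xc, ← xc, sub_add_cancel] at this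

theorem sum_dvd_of_translate {p : ℕ} (hp : p.Prime) (hpm : p ∣ m) (s : Finset (ZMod m))
    (G : ZMod m → ℤ) (hs : ∀ w ∈ s, ∀ z : ZMod m, p • z = 0 → w + z ∈ s ∧ G (w + z) = G w) :
    (p : ℤ) ∣ ∑ w ∈ s, G w := by
  classical
  have hP : (univ.filter fun z : ZMod m => p • z = 0).card = p := by
    have hle : (univ.filter fun z : ZMod m => p • z = 0).card ≤ p :=
      IsAddCyclic.card_nsmul_eq_zero_le hp.pos
    refine le_antisymm hle ?_
    have ho : addOrderOf ((m / p : ℕ) : ZMod m) = p := by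
      rw [ZMod.addOrderOf_coe _ (NeZero.ne m), Nat.gcd_eq_right (Nat.div_dvd_of_dvd hpm),
        Nat.div_div_self hpm (NeZero.ne m)]
    refine le_card_of_inj_on_range (fun k => k • ((m / p : ℕ) : ZMod m)) (fun k hk => ?_) fun a ha b hb h => ?_
    · rw [mem_filter]
      exact ⟨mem_univ _, by rw [smul_comm, addOrderOf_dvd_iff_nsmul_eq_zero.1 ho.dvd, nsmul_zero]⟩
    · have := nsmul_eq_nsmul_iff_modEq.1 h
      rw [ho] at this
      exact this.eq_of_lt_of_lt (by omega) (by omega)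
  rw [← sum_fiberwise_of_maps_to (g := fun w => p • w) (t := s.image fun w => p • w)
    (fun w hw => mem_image_of_mem _ hw)]
  refine dvd_sum fun v hv => ?_
  obtain ⟨w₀, hw₀, rfl⟩ := mem_image.1 hv
  have : s.filter (fun w => p • w = p • w₀) = (univ.filter fun z : ZMod m => p • z = 0).image (w₀ + ·) := by
    ext w
    simp only [mem_filter, mem_image, mem_univ, true_and]
    constructor
    · rintro ⟨-, hw⟩
      exact ⟨w - w₀, by rw [nsmul_sub, hw, sub_self], by abel⟩
    · rintro ⟨z, hz, rfl⟩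
      exact ⟨(hs w₀ hw₀ z hz).1, by rw [nsmul_add, hz, add_zero]⟩
  rw [this, sum_image (fun a _ b _ h => add_left_cancel h),
    sum_congr rfl fun z hz => (hs w₀ hw₀ z (mem_filter.1 hz).2).2, sum_const, hP]
  exact ⟨G w₀, by simp⟩

namespace PSRing

variable (S : PSRing m)

theorem xc_pow_iter {p : ℕ} (hp : p.Prime) (hodd : Odd p) {f : GR m} (hf : S.Mem f) (n : ℕ) (i : ZMod m) :
    (p : ℤ) ∣ xc (f ^ p ^ n) i - ∑ j ∈ univ.filter (fun j => p ^ n • j = i), xc f j := by
  classical
  induction n generalizing i with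
  | zero => simp [sum_filter]
  | succ n ih =>
    have h1 := xc_pow_prime hp hodd (S.xc_neg (S.mem_pow hf (p ^ n))) i
    rw [← pow_mul, ← pow_succ] at h1
    have h2 : (p : ℤ) ∣ ∑ a ∈ univ.filter (fun a => p • a = i), xc (f ^ p ^ n) a -
        ∑ a ∈ univ.filter (fun a => p • a = i), ∑ j ∈ univ.filter (fun j => p ^ n • j = a), xc f j := by
      rw [← sum_sub_distrib]; exact dvd_sum fun a _ => ih a
    have h3 : ∑ a ∈ univ.filter (fun a => p • a = i), ∑ j ∈ univ.filter (fun j => p ^ n • j = a), xc f j =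
        ∑ j ∈ univ.filter (fun j => p ^ (n + 1) • j = i), xc f j := by
      rw [← sum_fiberwise_of_maps_to (s := univ.filter fun j : ZMod m => p ^ (n + 1) • j = i)
        (t := univ.filter fun a => p • a = i) (g := fun j => p ^ n • j)
        (fun j hj => mem_filter.2 ⟨mem_univ _, by rw [smul_smul, ← pow_succ']; exact (mem_filter.1 hj).2⟩)]
      refine sum_congr rfl fun a ha => sum_congr ?_ fun _ _ => rfl
      ext j
      simp only [mem_filter, mem_univ, true_and] at ha ⊢
      constructor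
      · exact fun h => ⟨by rw [pow_succ, mul_comm, mul_nsmul', h, ha], h⟩
      · exact fun h => h.2
    rw [h3] at h2
    have := dvd_add h1 h2
    rwa [sub_add_sub_cancel] at this

variable {p : ℕ}

theorem supp_pow (hp : p.Prime) (hodd : Odd p) {j : ℕ} (hj : j ≠ 0) {f : GR m} (hf : S.Mem f)
    (h1 : Supp p ((p : ℤ) ^ j) f) (h2 : Supp p ((p : ℤ) ^ j) (f * f)) : Supp p ((p : ℤ) ^ (j + 1)) (f ^ p) := by
  set u := partA f
  set z := partB f
  have hc : Commute u z := commute_parts (S.xc_neg hf)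
  have hu : Supp p ((p : ℤ) ^ j) u := fun i hi => by rw [xc_partA]; exact h1 i hi
  have hz : Supp p ((p : ℤ) ^ j) (z * z) := fun i hi => by
    have e : f * f = u * u + z * z + (u * z + u * z) := by
      conv_lhs => rw [← part_add f]
      rw [add_mul, mul_add, mul_add, show z * u = u * z from hc.eq.symm]; abel
    have := dvd_sub (h2 i hi) ((hu.mul hp hu (partA_pure f)) i hi)
    rwa [e, xc_add, xc_add, xc_add, (partA_pure f).mulB (partB_pure f) i, add_zero, add_zero,
      add_sub_cancel_left] at this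
  intro i hi
  rw [← part_add f, hc.add_pow, xc_sum]
  refine dvd_sum fun k hk => ?_
  rw [← Nat.cast_comm, xc_natCast_mul]
  rcases eq_or_lt_of_le (Nat.lt_succ_iff.1 (mem_range.1 hk)) with rfl | hlt
  · rw [Nat.sub_self, pow_zero, mul_one]
    exact Dvd.dvd.mul_left (supp_pow_succ hp hj (partA_pure f) hu i hi) _
  rcases Nat.even_or_odd (p - k) with he | ho
  · obtain ⟨l, hl⟩ := he
    have hk0 : k ≠ 0 := fun h0 => by
      rw [h0, Nat.sub_zero] at hl; exact Nat.not_even_iff_odd.2 hodd ⟨l, hl⟩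
    rw [pow_succ', hl, pow_add, ← (Commute.refl z).mul_pow]
    exact mul_dvd_mul (Int.natCast_dvd_natCast.2 (hp.dvd_choose_self hk0 hlt))
      (((hu.pow hp (partA_pure f) k).mul hp (hz.pow hp ((partB_pure f).mul (partB_pure f)) l)
        ((partA_pure f).pow k)) i hi)
  · rw [((partA_pure f).pow k).mulB (((partB_pure f).pow_parity _).2 ho) i, mul_zero]
    exact dvd_zero _

variable (hrat : ∀ f, S.Mem f → Rat' f)
include hrat

theorem frob (hp : p.Prime) (hodd : Odd p) (hm : m ≠ 1) {f : GR m} (hf : S.Mem f) (h : Supp p (p : ℤ) f) :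
    Dvd' (p : ℤ) (f - f ^ p) := by
  classical
  refine S.dvd_of_xc hm (S.mem_sub hf (S.mem_pow hf p)) fun i => ?_
  rw [xc_sub, dvd_sub_comm]
  have h1 := xc_pow_prime hp hodd (S.xc_neg hf) i
  refine (dvd_iff_dvd_of_dvd_sub ?_).1 h1
  rw [sub_sub_sub_cancel_left]
  by_cases hi : PFree p i
  · obtain ⟨t, ht⟩ : ∃ t, (p * t) • i = i := by
      obtain ⟨t, ht⟩ := exists_mul_modEq_one hp hi
      exact ⟨t, (nsmul_eq_nsmul_iff_modEq.2 ht).trans (one_smul _ i)⟩
    have ht' : p • (t • i) = i := by rw [smul_smul, ht]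
    rw [← add_sum_erase _ _ (mem_filter.2 ⟨mem_univ (t • i), ht'⟩),
      hrat f hf (t • i) i (by rw [← addOrderOf_nsmul_pfree hp (hi.nsmul t), ht']), sub_add_cancel_left, dvd_neg]
    refine dvd_sum fun j hj => h j fun hjf => (mem_erase.1 hj).1 ?_
    refine sub_eq_zero.1 (eq_zero_of_pfree hp (k := 1) ?_ ?_)
    · rw [sub_eq_add_neg]
      exact hjf.add hp (by rw [PFree, addOrderOf_neg]; exact hi.nsmul t)
    · rw [pow_one, nsmul_sub, ht', (mem_filter.1 (mem_erase.1 hj).2).2, sub_self]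
  · refine dvd_sub (h i hi) (dvd_sum fun j hj => h j fun hjf => hi ?_)
    rw [← (mem_filter.1 hj).2]; exact hjf.nsmul p

theorem frob_iter (hp : p.Prime) (hodd : Odd p) (hm : m ≠ 1) {f : GR m} (hf : S.Mem f) (h : Supp p (p : ℤ) f)
    (n : ℕ) : Dvd' (p : ℤ) (f - f ^ p ^ n) := by
  induction n with
  | zero => intro d; simp
  | succ n ih =>
    have := ih.pow_sub p
    rw [← pow_mul, ← pow_succ] at this
    exact (S.frob hrat hp hodd hm hf h).trans' this

/-- Products of members supported at elements of order prime to `p` are supported there. -/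
theorem supp_mul (hp : p.Prime) (hodd : Odd p) (hm : m ≠ 1) (j : ℕ) : ∀ f g, S.Mem f → S.Mem g →
    Supp p ((p : ℤ) ^ j) f → Supp p ((p : ℤ) ^ j) g → Supp p ((p : ℤ) ^ j) (f * g) := by
  classical
  induction j with
  | zero => intros; intro i _; simp
  | succ j ih =>
    intro f g hf hg hfs hgs
    have hp1 : ∀ k : GR m, Supp p ((p : ℤ) ^ (j + 1)) k → Supp p (p : ℤ) k :=
      fun k hk i hi => (dvd_pow_self _ (by omega)).trans (hk i hi)
    rcases Nat.eq_zero_or_pos j with rfl | hj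
    · rw [zero_add, pow_one] at hfs hgs ⊢
      intro i hi
      set n := m.factorization p
      have h1 : Dvd' (p : ℤ) (f * g - (f * g) ^ p ^ n) := by
        rw [(S.mul_comm' hf hg).mul_pow,
          show f * g - f ^ p ^ n * g ^ p ^ n = (f - f ^ p ^ n) * g + f ^ p ^ n * (g - g ^ p ^ n) by
            rw [sub_mul, mul_sub]; abel]
        exact ((S.frob_iter hrat hp hodd hm hf hfs n).mul _).add
          ((S.frob_iter hrat hp hodd hm hg hgs n).mul_left _)
      have h2 := S.xc_pow_iter hp hodd (S.mul_mem f g hf hg) n i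
      rw [filter_eq_empty_iff.2 (fun j _ (hji : p ^ n • j = i) => hi (hji ▸ pfree_pow_smul hp j)), sum_empty,
        sub_zero] at h2
      have := dvd_add (h1 (r i)) h2
      rwa [cf_sub, ← xc, ← xc, sub_add_cancel] at this
    have hlow : ∀ k : GR m, Supp p ((p : ℤ) ^ (j + 1)) k → Supp p ((p : ℤ) ^ j) k :=
      fun k hk i hi => (pow_dvd_pow _ (Nat.le_succ j)).trans (hk i hi)
    have hpp : ∀ k, S.Mem k → Supp p ((p : ℤ) ^ (j + 1)) k →
        Supp p ((p : ℤ) ^ (j + 1)) (k ^ p) ∧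
        ∃ R, S.Mem R ∧ Supp p ((p : ℤ) ^ j) R ∧ k = k ^ p + (p : GR m) * R := by
      intro k hk hks
      have h1 := S.supp_pow hp hodd hj.ne' hk (hlow k hks) (ih k k hk hk (hlow k hks) (hlow k hks))
      refine ⟨h1, mk' (fun d => cf (k - k ^ p) d / (p : ℤ)), ?_, ?_, ?_⟩
      · intro a b hab; rw [cf_mk', cf_mk', S.mem_sub hk (S.mem_pow hk p) a b hab]
      · intro i hi
        have h2 := dvd_sub (hks i hi) (h1 i hi)
        obtain ⟨c, hc⟩ := h2
        rw [← xc_sub] at hc
        rw [xc, cf_mk', ← xc, hc, pow_succ', mul_assoc,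
          Int.mul_ediv_cancel_left _ (by exact_mod_cast hp.ne_zero)]
        exact dvd_mul_right _ _
      · refine cf_ext fun d => ?_
        rw [cf_add, ← nsmul_eq_mul, ← natCast_zsmul, cf_zsmul, cf_mk',
          Int.mul_ediv_cancel' (S.frob hrat hp hodd hm hk (hp1 k hks) d), cf_sub, add_sub_cancel]
    obtain ⟨hfp, R, hR, hRs, hfe⟩ := hpp f hf hfs
    obtain ⟨hgp, T, hT, hTs, hge⟩ := hpp g hg hgs
    have hfpm := S.mem_pow hf p
    have hgpm := S.mem_pow hg p
    have e : f * g = (f * g) ^ p + (p : GR m) * (R * g ^ p + f ^ p * T) + ((p * p : ℕ) : GR m) * (R * T) := by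
      rw [(S.mul_comm' hf hg).mul_pow]
      conv_lhs => rw [hfe, hge]
      rw [Nat.cast_mul]
      simp only [mul_add, add_mul, mul_assoc, Nat.cast_comm]
      abel
    intro i hi
    rw [e, xc_add, xc_add, xc_natCast_mul, xc_natCast_mul, xc_add]
    refine dvd_add (dvd_add ?_ ?_) ?_
    · exact S.supp_pow hp hodd hj.ne' (S.mul_mem f g hf hg) (ih f g hf hg (hlow f hfs) (hlow g hgs))
        (ih _ _ (S.mul_mem f g hf hg) (S.mul_mem f g hf hg) (ih f g hf hg (hlow f hfs) (hlow g hgs))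
          (ih f g hf hg (hlow f hfs) (hlow g hgs))) i hi
    · rw [pow_succ']
      exact mul_dvd_mul_left _ (dvd_add (ih _ _ hR hgpm hRs (hlow _ hgp) i hi)
        (ih _ _ hfpm hT (hlow _ hfp) hTs i hi))
    · rw [Nat.cast_mul, mul_assoc, pow_succ']
      exact mul_dvd_mul_left _ (Dvd.dvd.mul_left (ih _ _ hR hT hRs hTs i hi) _)

/-- Every non-trivial class has a rotation of order divisible by `p`. -/
theorem exists_not_pfree (hp : p.Prime) (hodd : Odd p) (hm : m ≠ 1) (hpm : p ∣ m) {x : DihedralGroup m}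
    (hx : x ≠ 1) : ∃ i, ¬ PFree p i ∧ S.cl.r x (r i) := by
  classical
  by_contra hcon
  push Not at hcon
  set Z : Set (DihedralGroup m) := {y | ∀ i, S.cl.r y (r i) → PFree p i}
  have hxZ : x ∈ Z := fun i hi => by
    by_contra h; exact hcon i h hi
  have htop := S.closure_eq (Z := Z) (fun a b hab ha i hbi => ha i (S.cl.iseqv.trans hab hbi)) hxZ hx
  have hsub : ∀ y ∈ Subgroup.closure Z, y ∈ Z := by
    intro y hy
    rw [← Subgroup.mem_toSubmonoid, Subgroup.closure_toSubmonoid_of_finite] at hy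
    induction hy using Submonoid.closure_induction with
    | mem y hy => exact hy
    | one =>
      intro i hi
      have h0 := S.one_cl _ hi
      rw [one_def, r.injEq] at h0
      subst h0; exact pfree_zero hp
    | mul a b _ _ ha hb =>
      intro i hi
      by_contra hpi
      have hfs : ∀ c ∈ Z, ∀ q : ℤ, Supp p q (S.ind c) := fun c hc q j hj => by
        rw [xc, cf_ind, if_neg fun h => hj (hc j h)]; exact dvd_zero q
      have hzero : xc (S.ind a * S.ind b) i = 0 := by
        by_contra hne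
        set v := (xc (S.ind a * S.ind b) i).natAbs
        have := Int.natAbs_dvd_natAbs.2 (S.supp_mul hrat hp hodd hm v _ _ (S.mem_ind a) (S.mem_ind b)
          (hfs a ha _) (hfs b hb _) i hpi)
        rw [Int.natAbs_pow, Int.natAbs_natCast] at this
        have h1 := Nat.le_of_dvd (Int.natAbs_pos.2 hne) this
        exact absurd h1 (not_le.2 (Nat.lt_pow_self hp.one_lt))
      rw [xc, ← S.mul_mem _ _ (S.mem_ind a) (S.mem_ind b) _ _ hi, cf_mul] at hzero
      have := (sum_eq_zero_iff_of_nonneg fun z _ => mul_nonneg (S.cf_ind_nonneg _ _) (S.cf_ind_nonneg _ _)).1 hzero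
        a (mem_univ _)
      rw [inv_mul_cancel_left, cf_ind, cf_ind, if_pos (S.cl.iseqv.refl a), if_pos (S.cl.iseqv.refl b)] at this
      norm_num at this
  have h1 := hsub _ (htop ▸ Subgroup.mem_top (r 1)) 1 (S.cl.iseqv.refl _)
  rw [PFree, ZMod.addOrderOf_one] at h1
  exact h1 hpm

/-- Every member's power by the full `p`-part is congruent to a scalar. -/
theorem pow_scalar (hp : p.Prime) (hodd : Odd p) (hm : m ≠ 1) (hpm : p ∣ m) {f : GR m} (hf : S.Mem f) :
    Dvd' (p : ℤ) (f ^ p ^ m.factorization p - cf (f ^ p ^ m.factorization p) 1 • 1) := by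
  classical
  set n := m.factorization p
  refine S.dvd_sub_scalar hm (S.mem_pow hf _) fun i hi => ?_
  obtain ⟨j, hj, hcl⟩ := S.exists_not_pfree hrat hp hodd hm hpm (x := r i) (by simpa [one_def, -r_zero] using hi)
  rw [xc, S.mem_pow hf _ _ _ hcl, ← xc]
  have h2 := S.xc_pow_iter hp hodd hf n j
  rwa [filter_eq_empty_iff.2 (fun k _ (hk : p ^ n • k = j) => hj (hk ▸ pfree_pow_smul hp k)), sum_empty,
    sub_zero] at h2

theorem deg_sub_sgn (hp : p.Prime) (hodd : Odd p) (hm : m ≠ 1) (hpm : p ∣ m) {f : GR m} (hf : S.Mem f) :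
    (p : ℤ) ∣ deg f - sgn f := by
  classical
  have h := S.pow_scalar hrat hp hodd hm hpm hf
  set n := m.factorization p
  have e : ∀ c : ℤ, deg (c • (1 : GR m)) = c * deg (1 : GR m) ∧ sgn (c • (1 : GR m)) = c * sgn (1 : GR m) :=
    fun c => by simp only [deg, sgn, xc, yc, cf_zsmul, ← mul_sum, mul_add, mul_sub, and_self]
  have h1 := h.deg_sub
  have h2 := h.sgn_sub
  rw [(e _).1, deg_one, deg_pow] at h1
  rw [(e _).2, sgn_one, sgn_pow] at h2
  have h3 := dvd_sub h1 h2
  rw [sub_sub_sub_cancel_right] at h3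
  haveI := Fact.mk hp
  rw [← ZMod.intCast_zmod_eq_zero_iff_dvd] at h3 ⊢
  simpa using h3

/-- Translation by elements of order `p` preserves the classes of rotations of other orders. -/
theorem cl_translate (hp : p.Prime) (hm : m ≠ 1) (hpm : p ∣ m)
    (hcase : Odd p ∨ ∀ i : ZMod m, PFree p i → i = 0) {i z : ZMod m} (hi : p • i ≠ 0) (hz : p • z = 0) :
    S.cl.r (r i) (r (i + z)) := by
  classical
  have hsame : ∀ a b : ZMod m, addOrderOf a = addOrderOf b → S.cl.r (r a) (r b) := fun a b hab => by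
    have := hrat (S.ind (r a)) (S.mem_ind _) a b hab
    simp only [xc, cf_ind, if_pos (S.cl.iseqv.refl (r a))] at this
    by_contra hc
    simp [hc] at this
  have hsq : ∀ a w : ZMod m, p ^ 2 ∣ addOrderOf a → p • w = 0 → addOrderOf (a + w) = addOrderOf a := by
    intro a w ha hw
    have h1 := addOrderOf_nsmul (n := p) (a + w)
    rw [nsmul_add, hw, add_zero, addOrderOf_nsmul, Nat.gcd_eq_right ((dvd_pow_self p two_ne_zero).trans ha)] at h1
    obtain ⟨c, hc⟩ := ha
    rcases hp.eq_one_or_self_of_dvd _ (Nat.gcd_dvd_right (addOrderOf (a + w)) p) with h2 | h2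
    · rw [h2, Nat.div_one, hc, pow_two, mul_assoc, Nat.mul_div_cancel_left _ hp.pos] at h1
      have : Nat.gcd (addOrderOf (a + w)) p = p := Nat.gcd_eq_right ⟨c, h1.symm⟩
      rw [h2] at this
      exact absurd this.symm hp.ne_one
    · rw [h2] at h1
      exact ((Nat.div_left_inj ⟨p * c, by rw [hc, pow_two, mul_assoc]⟩ (Nat.gcd_eq_right_iff_dvd.1 h2)).1 h1).symm
  by_cases h2 : p ^ 2 ∣ addOrderOf i
  · exact hsame _ _ (hsq i z h2 hz).symm
  have hodd_ne : ∀ c : ZMod m, PFree p c → c ≠ 0 → Odd p := fun c hc hc0 =>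
    hcase.resolve_right fun h => hc0 (h c hc)
  obtain ⟨c, hc, hic⟩ : ∃ c, PFree p c ∧ p • (i - c) = 0 := by
    by_cases h1 : p ∣ addOrderOf i
    · obtain ⟨o, ho⟩ := h1
      have hpo : ¬ p ∣ o := fun ⟨e, he⟩ => h2 ⟨e, by rw [ho, he, pow_two, mul_assoc]⟩
      obtain ⟨t, ht⟩ := exists_mul_modEq_one hp hpo
      refine ⟨(p * t) • i, fun hd => hpo (hd.trans (addOrderOf_dvd_of_nsmul_eq_zero ?_)), ?_⟩
      · rw [smul_smul, show o * (p * t) = t * addOrderOf i by rw [ho]; ring, mul_nsmul', addOrderOf_nsmul_eq_zero,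
          nsmul_zero]
      · rw [nsmul_sub, smul_smul, sub_eq_zero, nsmul_eq_nsmul_iff_modEq, ho]
        simpa using (ht.mul_left' p).symm
    · exact ⟨i, h1, by simp⟩
  have hc0 : c ≠ 0 := fun h => hi (by rw [h, sub_zero] at hic; exact hic)
  have hodd := hodd_ne c hc hc0
  suffices key : ∀ w : ZMod m, p • w = 0 → S.cl.r (r c) (r (c + w)) by
    have h3 := key (i - c) hic
    rw [add_sub_cancel] at h3
    have h4 := key (i - c + z) (by rw [nsmul_add, hic, hz, add_zero])
    rw [← add_assoc, add_sub_cancel] at h4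
    exact S.cl.iseqv.trans (S.cl.iseqv.symm h3) h4
  intro w₁ hw₁
  rcases eq_or_ne w₁ 0 with rfl | hw0
  · rw [add_zero]
  set k := m.factorization p with hk
  set f := S.ind (r c) with hf
  set g := p ^ k • c with hg
  have hg0 : g ≠ 0 := fun h => hc0 (eq_zero_of_pfree hp hc h)
  have h3 : (p : ℤ) ∣ ∑ j ∈ univ.filter (fun j => p ^ k • j = g), xc f j := by
    refine (dvd_iff_dvd_of_dvd_sub (S.xc_pow_iter hp hodd (S.mem_ind _) k g)).1 ?_
    have h4 := S.pow_scalar hrat hp hodd hm hpm (S.mem_ind (r c)) (r g)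
    rwa [cf_sub, cf_zsmul, cf_one, if_neg (by simpa [one_def, -r_zero] using hg0), mul_zero, sub_zero] at h4
  have hset : univ.filter (fun j => p ^ k • j = g) =
      (univ.filter fun w : ZMod m => p ^ k • w = 0).image (c + ·) := by
    ext j
    simp only [mem_filter, mem_image, mem_univ, true_and]
    constructor
    · intro h
      exact ⟨j - c, by rw [nsmul_sub, h, hg, sub_self], by abel⟩
    · rintro ⟨w, hw, rfl⟩
      rw [nsmul_add, hw, add_zero, hg]
  rw [hset, sum_image (fun a _ b _ h => add_left_cancel h),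
    ← sum_filter_add_sum_filter_not (univ.filter fun w : ZMod m => p ^ k • w = 0) (fun w => p • w = 0)] at h3
  have hrest : (p : ℤ) ∣ ∑ w ∈ (univ.filter fun w : ZMod m => p ^ k • w = 0).filter (fun w => ¬ p • w = 0),
      xc f (c + w) := by
    refine sum_dvd_of_translate hp hpm _ _ fun w hw z' hz' => ?_
    simp only [mem_filter, mem_univ, true_and] at hw ⊢
    have hk1 : 0 < k := hp.factorization_pos_of_dvd (NeZero.ne m) hpm
    refine ⟨⟨?_, ?_⟩, ?_⟩
    · rw [nsmul_add, hw.1, zero_add, show p ^ k = p ^ (k - 1) * p by rw [← pow_succ, Nat.sub_add_cancel hk1],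
        mul_nsmul', hz', nsmul_zero]
    · rw [nsmul_add, hz', add_zero]; exact hw.2
    · rw [← add_assoc]
      refine hrat f (S.mem_ind _) _ _ (hsq _ _ ?_ hz')
      obtain ⟨e, -, he⟩ := (Nat.dvd_prime_pow hp).1 (addOrderOf_dvd_of_nsmul_eq_zero hw.1)
      have he2 : 2 ≤ e := by
        by_contra hlt
        exact hw.2 (addOrderOf_dvd_iff_nsmul_eq_zero.1 (by rw [he]; exact (pow_dvd_pow p (show e ≤ 1 by omega)).trans (by simp)))
      have hcop : Nat.Coprime (addOrderOf c) (addOrderOf w) := by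
        rw [he]; exact Nat.Coprime.pow_right _ (hp.coprime_iff_not_dvd.2 hc).symm
      rw [(AddCommute.all c w).addOrderOf_add_eq_mul_addOrderOf_of_coprime hcop, he]
      exact Dvd.dvd.mul_left (pow_dvd_pow p he2) _
  rw [dvd_add_left hrest] at h3
  have hP : ((univ.filter fun w : ZMod m => p ^ k • w = 0).filter fun w => p • w = 0) =
      univ.filter fun w : ZMod m => p • w = 0 := by
    ext w
    simp only [mem_filter, mem_univ, true_and, and_iff_right_iff_imp]
    intro hw
    rw [show p ^ k = p ^ (k - 1) * p by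
      rw [← pow_succ, Nat.sub_add_cancel (show 0 < k from hp.factorization_pos_of_dvd (NeZero.ne m) hpm)],
      mul_nsmul', hw, nsmul_zero]
  have hval : ∀ w : ZMod m, p • w = 0 → w ≠ 0 → xc f (c + w) = xc f (c + w₁) := fun w hw hwne => by
    have ho : ∀ v : ZMod m, p • v = 0 → v ≠ 0 → addOrderOf (c + v) = addOrderOf c * p := fun v hv hv0 => by
      have hvo : addOrderOf v = p := (Nat.dvd_prime hp).1 (addOrderOf_dvd_of_nsmul_eq_zero hv) |>.resolve_left
        fun h => hv0 (AddMonoid.addOrderOf_eq_one_iff.1 h)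
      rw [(AddCommute.all c v).addOrderOf_add_eq_mul_addOrderOf_of_coprime
        (by rw [hvo]; exact (hp.coprime_iff_not_dvd.2 hc).symm), hvo]
    exact hrat f (S.mem_ind _) _ _ (by rw [ho w hw hwne, ho w₁ hw₁ hw0])
  rw [hP, ← add_sum_erase _ _ (mem_filter.2 ⟨mem_univ _, nsmul_zero p⟩ : (0 : ZMod m) ∈ univ.filter fun w : ZMod m => p • w = 0), add_zero] at h3
  rw [sum_congr rfl fun w hw => hval w (mem_filter.1 (mem_erase.1 hw).2).2 (mem_erase.1 hw).1, sum_const] at h3
  by_contra hcon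
  have e1 : xc f c = 1 := by rw [xc, hf, cf_ind, if_pos (S.cl.iseqv.refl _)]
  have e2 : xc f (c + w₁) = 0 := by rw [xc, hf, cf_ind, if_neg hcon]
  rw [e1, e2, smul_zero, add_zero] at h3
  exact hp.one_lt.ne' (by exact_mod_cast Int.eq_one_of_dvd_one (Int.natCast_nonneg p) h3)

end PSRing

end Cfsg.Agent.H78.Dihedral
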