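import Cfsg.Agent.H78.Dihedral.Eigen

/-!
A primitive Schur ring over a dihedral group is trivial (Wielandt).
-/

set_option autoImplicit false
set_option linter.unusedSectionVars false

namespace Cfsg.Agent.H78.Dihedral

open DihedralGroup Finset
open scoped ComplexConjugate

variable {m : ℕ} [NeZero m]

theorem addOrderOf_div {d : ℕ} (hd : d ∣ m) : addOrderOf ((m / d : ℕ) : ZMod m) = d := by
  rw [ZMod.addOrderOf_coe _ (NeZero.ne m), Nat.gcd_eq_right (Nat.div_dvd_of_dvd hd),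
    Nat.div_div_self hd (NeZero.ne m)]

theorem numeric {q : ℕ} {m k σ A : ℤ} (hq : 3 ≤ q) (hσ : (q : ℤ) ≤ |σ|) (hk : 0 < k) (hk' : k < 2 * m)
    (h1 : k * (2 * m - k) = σ * σ * (2 * m - 1)) (h2 : q * (m * A - A * A) ≤ σ * σ * (m - q))
    (hA : 2 * A = k + σ) : False := by
  have hqz : (3 : ℤ) ≤ q := by exact_mod_cast hq
  set u := k - m with hu
  have e : 4 * (m * A - A * A) = σ * σ * (2 * m - 2) - 2 * σ * u := by
    linear_combination (2 * m - 2 * A - (k + σ)) * hA + h1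
  have h3 : σ * σ * ((q - 2) * m + q) ≤ q * σ * u := by
    nlinarith [h2, e, congrArg (fun t : ℤ => (q : ℤ) * t) e]
  have hm : 1 ≤ m := by omega
  have h4 : |σ| * (|σ| * ((q - 2) * m + q)) ≤ |σ| * (q * |u|) := by
    have : q * σ * u ≤ q * (|σ| * |u|) := by
      rw [mul_assoc, ← abs_mul]; exact mul_le_mul_of_nonneg_left (le_abs_self _) (by omega)
    rw [← mul_assoc |σ| |σ|, abs_mul_abs_self]
    linarith
  have h5 := le_of_mul_le_mul_left h4 (by omega)
  have h6 : (q : ℤ) * ((q - 2) * m + q) ≤ q * |u| := by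
    refine le_trans ?_ h5
    exact mul_le_mul_of_nonneg_right hσ (by nlinarith)
  have h7 := le_of_mul_le_mul_left h6 (by omega)
  have h8 : |u| < m := by rw [abs_lt]; omega
  nlinarith

/-- The possible rotation parts on eight points. -/
def pat8 (b : Fin 2) (j : ZMod 8) : Fin 2 := (![0, b, 1, b, 0, b, 1, b] : Fin 8 → Fin 2) j

theorem eight : ∀ (b : Fin 2) (Y : ZMod 8 → Fin 2), ∃ g : ZMod 8, g ≠ 0 ∧
    (∑ j, (pat8 b j).val *
        (pat8 b (g - j)).val) +
      (∑ j, (Y j).val * (Y (j + g)).val) + 4 ≠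
    (∑ j, (pat8 b j).val) + ∑ j, (Y j).val := by
  decide +kernel

namespace PSRing

/-- There is no exceptional configuration on eight points. -/
theorem not_eight (S : PSRing 8) (hrat : ∀ f, S.Mem f → Rat' f) {u : DihedralGroup 8} (hu : u ≠ 1)
    (h2 : S.cl.r u (r 2)) (h4 : ¬ S.cl.r u (r 4))
    (h : ∀ i : ZMod 8, i ≠ 0 → cf (S.ind u * S.ind u) (r i) = deg (S.ind u) - 4) : False := by
  classical
  set f := S.ind u with hf
  let bit : ℤ → Fin 2 := fun a => if a = 1 then 1 else 0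
  have hbit : ∀ x, cf f x = ((bit (cf f x)).val : ℤ) := fun x => by
    rw [hf, cf_ind]; split_ifs <;> simp [bit]
  have hr : ∀ i j : ZMod 8, addOrderOf i = addOrderOf j → cf f (r i) = cf f (r j) :=
    fun i j hij => hrat f (S.mem_ind u) i j hij
  have ho : ∀ n : ℕ, addOrderOf ((n : ℕ) : ZMod 8) = 8 / Nat.gcd 8 n := fun n => ZMod.addOrderOf_coe n (by norm_num)
  have x0 : cf f (r 0) = 0 := by
    rw [hf, cf_ind, if_neg fun h => hu (S.one_cl u (S.cl.iseqv.symm (one_def (n := 8) ▸ h)))]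
  have x4 : cf f (r 4) = 0 := by rw [hf, cf_ind, if_neg h4]
  have x2 : cf f (r 2) = 1 := by rw [hf, cf_ind, if_pos h2]
  have x6 : cf f (r 6) = 1 := by
    rw [← x2]; exact hr 6 2 (by simpa using (ho 6).trans ((by norm_num : 8 / Nat.gcd 8 6 = 8 / Nat.gcd 8 2).trans (ho 2).symm))
  have xo : ∀ n : ℕ, Nat.gcd 8 n = 1 → cf f (r (n : ZMod 8)) = cf f (r 1) := fun n hn =>
    hr _ 1 ((ho n).trans (by rw [hn, ZMod.addOrderOf_one]))
  set b := bit (cf f (r 1)) with hb
  have hX : ∀ j : ZMod 8, cf f (r j) = ((pat8 b j).val : ℤ) := fun j => by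
    have e1 := hbit (r 1)
    have e3 := xo 3 (by norm_num)
    have e5 := xo 5 (by norm_num)
    have e7 := xo 7 (by norm_num)
    fin_cases j <;> first
      | exact x0
      | exact x4
      | exact x2
      | exact x6
      | exact e1
      | exact e3.trans e1
      | exact e5.trans e1
      | exact e7.trans e1
  obtain ⟨Y, hY⟩ : ∃ Y : ZMod 8 → Fin 2, ∀ j, cf f (sr j) = ((Y j).val : ℤ) := ⟨_, fun j => hbit (sr j)⟩
  obtain ⟨g, hg, hne⟩ := eight b Y
  refine hne ?_
  have hg' : xc (f * f) g = deg f - 4 := h g hg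
  rw [xc_mul, deg] at hg'
  simp only [xc, yc, hX, hY] at hg'
  zify
  linarith

variable (S : PSRing m)

/-- Parseval bound for a set invariant under a rotation. -/
theorem parseval_bound {u : DihedralGroup m} {σ : ℤ} {w : ZMod m}
    (hsq : ∀ ψ : AddChar (ZMod m) ℂ, ψ ≠ 1 →
      ex ψ (S.ind u) * ex ψ (S.ind u) + conj (ey ψ (S.ind u)) * ey ψ (S.ind u) = (σ : ℂ) * σ)
    (hw : ∀ ψ : AddChar (ZMod m) ℂ, ψ w ≠ 1 → ex ψ (S.ind u) = 0) :
    (addOrderOf w : ℤ) * ((m : ℤ) * (∑ i, xc (S.ind u) i) - (∑ i, xc (S.ind u) i) * (∑ i, xc (S.ind u) i)) ≤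
      σ * σ * ((m : ℤ) - addOrderOf w) := by
  classical
  set f := S.ind u
  set A := ∑ i, xc f i with hA
  set s := univ.filter fun ψ : AddChar (ZMod m) ℂ => ψ w = 1 with hs
  have hN : (addOrderOf w : ℝ) * s.card = m := by exact_mod_cast card_trivial_at w
  have hre : ∀ ψ : AddChar (ZMod m) ℂ, ((ex ψ f).re : ℂ) = ex ψ f :=
    fun ψ => Complex.conj_eq_iff_re.1 (S.ex_real (S.mem_ind u) ψ)
  have hone : ex (1 : AddChar (ZMod m) ℂ) f = (A : ℂ) := by simp [ex, hA]
  have hb : ∀ ψ : AddChar (ZMod m) ℂ, ψ ≠ 1 → (ex ψ f).re * (ex ψ f).re ≤ (σ : ℝ) * σ := fun ψ hψ => by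
    have h1 := congrArg Complex.re (hsq ψ hψ)
    rw [← hre ψ] at h1
    simp only [Complex.add_re, Complex.mul_re, Complex.ofReal_re, Complex.ofReal_im, mul_zero, sub_zero,
      Complex.conj_re, Complex.conj_im, Complex.intCast_re, Complex.intCast_im] at h1
    nlinarith [mul_self_nonneg (ey ψ f).re, mul_self_nonneg (ey ψ f).im]
  have hP := parseval (f := f) (S.xc_neg (S.mem_ind u))
  have hsum : ∑ i, (xc f i : ℂ) * xc f i = (A : ℂ) := by
    rw [hA, Int.cast_sum]
    refine sum_congr rfl fun i _ => ?_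
    rw [xc, cf_ind]; split_ifs <;> simp
  rw [hsum] at hP
  have hP' : ∑ ψ : AddChar (ZMod m) ℂ, (ex ψ f).re * (ex ψ f).re = (m : ℝ) * A := by
    apply Complex.ofReal_injective
    push_cast
    simp only [hre]
    exact hP
  rw [← sum_filter_of_ne (p := fun ψ => ψ w = 1) (fun ψ _ hne => by
    by_contra hψ; exact hne (by rw [hw ψ hψ]; simp))] at hP'
  rw [← hs, ← add_sum_erase s _ (show (1 : AddChar (ZMod m) ℂ) ∈ s by simp [hs]), hone] at hP'
  have hle : ∑ ψ ∈ s.erase 1, (ex ψ f).re * (ex ψ f).re ≤ ((s.card : ℝ) - 1) * ((σ : ℝ) * σ) := by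
    refine (sum_le_card_nsmul _ _ _ fun ψ hψ => hb ψ (mem_erase.1 hψ).1).trans (le_of_eq ?_)
    rw [card_erase_of_mem (by simp [hs]), nsmul_eq_mul,
      Nat.cast_sub (card_pos.2 ⟨1, by simp [hs]⟩), Nat.cast_one]
  simp only [Complex.intCast_re] at hP'
  have hkey : (addOrderOf w : ℝ) * ((m : ℝ) * A - A * A) ≤ (σ : ℝ) * σ * ((m : ℝ) - addOrderOf w) := by
    rw [← hP', add_sub_cancel_left]
    refine (mul_le_mul_of_nonneg_left hle (Nat.cast_nonneg _)).trans (le_of_eq ?_)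
    rw [← hN]; ring
  exact_mod_cast hkey

variable (hrat : ∀ f, S.Mem f → Rat' f)
include hrat

theorem evals {p : ℕ} {z : ZMod m} (hp : p.Prime) (hm : m ≠ 1) (hpm : p ∣ m)
    (hcase : Odd p ∨ ∀ i : ZMod m, PFree p i → i = 0) (hz : p • z = 0) (hz0 : z ≠ 0)
    {u : DihedralGroup m} (hu1 : u ≠ 1) (huz : ¬ S.cl.r u (r z)) (ψ : AddChar (ZMod m) ℂ) (hψ : ψ ≠ 1) :
    ex ψ (S.ind u) * ex ψ (S.ind u) + conj (ey ψ (S.ind u)) * ey ψ (S.ind u) =
        (sgn (S.ind u) : ℂ) * sgn (S.ind u) ∧ 2 * ex ψ (S.ind u) * ey ψ (S.ind u) = 0 := by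
  classical
  obtain ⟨-, -, -, hh⟩ := S.three_classes hrat hp hm hpm hcase hz hz0 hu1 huz
  set f := S.ind u
  have hdec : f * f = (sgn f * sgn f) • (1 : GR m) + (deg f - sgn f * sgn f) • ((1 : GR m) + allNe m) :=
    cf_ext fun x => by
      rw [hh x, cf_add, cf_zsmul, cf_zsmul, one_add_allNe, cf_one]
      split_ifs <;> ring
  have hall : ex ψ ((1 : GR m) + allNe m) = 0 ∧ ey ψ ((1 : GR m) + allNe m) = 0 := by
    constructor <;> simp [ex, ey, xc, yc, one_add_allNe, -cf_add, AddChar.sum_eq_zero_of_ne_one hψ]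
  have h1 := congrArg (ex ψ) hdec
  have h2 := congrArg (ey ψ) hdec
  rw [ex_mul, ex_add, ex_zsmul, ex_zsmul, hall.1, ex_one] at h1
  rw [ey_mul, ey_add, ey_zsmul, ey_zsmul, hall.2, ey_one, S.ex_real (S.mem_ind u)] at h2
  push_cast at h1 h2
  exact ⟨by linear_combination h1, by linear_combination h2⟩

theorem trivial_rational (hm : m ≠ 1) : ∀ a b, a ≠ 1 → b ≠ 1 → S.cl.r a b := by
  classical
  suffices key : ∀ (p : ℕ), p.Prime → p ∣ m → (Odd p ∨ ∀ i : ZMod m, PFree p i → i = 0) →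
      (∀ u : DihedralGroup m, u ≠ 1 → S.cl.r u (r ((m / p : ℕ) : ZMod m))) by
    intro a b ha hb
    rcases Nat.eq_two_pow_or_exists_odd_prime_and_dvd m with ⟨K, hK⟩ | ⟨p, hp, hpm, hodd⟩
    · have h2m : 2 ∣ m := by
        rcases K.eq_zero_or_pos with rfl | hK0
        · exact absurd hK (by simpa using hm)
        · rw [hK]; exact dvd_pow_self 2 hK0.ne'
      have h := key 2 Nat.prime_two h2m (Or.inr fun i hi => eq_zero_of_pfree Nat.prime_two hi (k := K)
        (by rw [← hK, nsmul_eq_mul, ZMod.natCast_self, zero_mul]))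
      exact S.cl.iseqv.trans (h a ha) (S.cl.iseqv.symm (h b hb))
    · have h := key p hp hpm (Or.inl hodd)
      exact S.cl.iseqv.trans (h a ha) (S.cl.iseqv.symm (h b hb))
  intro p hp hpm hcase u hu
  set z := ((m / p : ℕ) : ZMod m) with hz'
  have hzo : addOrderOf z = p := addOrderOf_div hpm
  have hz : p • z = 0 := addOrderOf_dvd_iff_nsmul_eq_zero.1 hzo.dvd
  have hz0 : z ≠ 0 := fun h => hp.one_lt.ne (by rw [← hzo, h, addOrderOf_zero])
  by_contra huz
  obtain ⟨h1, hklt, hσ0, hh⟩ := S.three_classes hrat hp hm hpm hcase hz hz0 hu huz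
  have hev := S.evals hrat hp hm hpm hcase hz hz0 hu huz
  set f := S.ind u with hf
  set k := deg f with hk
  set σ := sgn f with hσ
  have hk0 : 0 < k := S.deg_ind_pos u
  have hA : 2 * (∑ i, xc f i) = k + σ := by rw [hk, hσ, deg, sgn]; ring
  have hf0 : cf f 1 = 0 := by rw [hf, cf_ind, if_neg fun h => hu (S.one_cl u (S.cl.iseqv.symm h))]
  have hfz : cf f (r z) = 0 := by rw [hf, cf_ind, if_neg huz]
  have hsame : ∀ i, addOrderOf i = addOrderOf z → xc f i = 0 := fun i hi => by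
    rw [hrat f (S.mem_ind u) i z hi]; exact hfz
  have hP : ∀ i, p • i = 0 → xc f i = 0 := fun i hi => by
    rcases (Nat.dvd_prime hp).1 (addOrderOf_dvd_of_nsmul_eq_zero hi) with h | h
    · rw [AddMonoid.addOrderOf_eq_one_iff.1 h, xc, ← one_def]; exact hf0
    · exact hsame i (h.trans hzo.symm)
  by_cases hodd : Odd p
  · refine numeric (q := p) (by
      have := hp.two_le
      rcases hodd with ⟨t, ht⟩
      omega) ?_ hk0 hklt h1 ?_ hA
    · have hd : (p : ℤ) ∣ ∑ i, yc f i := by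
        have hdd := S.deg_sub_sgn hrat hp hodd hm hpm (S.mem_ind u)
        rw [← hf, show deg f - sgn f = 2 * ∑ i, yc f i by rw [deg, sgn]; ring] at hdd
        refine (Int.Prime.dvd_mul' hp hdd).resolve_left fun h => ?_
        have := Nat.le_of_dvd two_pos (Int.natCast_dvd_natCast.1 h)
        rcases hodd with ⟨t, ht⟩
        have := hp.two_le
        omega
      have hx : (p : ℤ) ∣ ∑ i, xc f i := by
        rw [← sum_filter_add_sum_filter_not univ (fun i : ZMod m => p • i = 0),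
          sum_eq_zero (fun i hi => hP i (mem_filter.1 hi).2), zero_add]
        refine sum_dvd_of_translate hp hpm _ _ fun w hw z' hz'' => ⟨?_, ?_⟩
        · rw [mem_filter] at hw ⊢
          exact ⟨mem_univ _, by rw [nsmul_add, hz'', add_zero]; exact hw.2⟩
        · exact (S.mem_ind u _ _ (S.cl_translate hrat hp hm hpm hcase (mem_filter.1 hw).2 hz'')).symm
      exact Int.le_of_dvd (abs_pos.2 hσ0) ((dvd_abs _ _).2 (by rw [hσ, sgn]; exact dvd_sub hx hd))
    · have := S.parseval_bound (σ := σ) (u := u) (w := z) (fun ψ hψ => (hev ψ hψ).1) fun ψ hψ => by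
        rw [S.ex_mem hrat hp hm hpm hcase hz hz0 (S.mem_ind u) hψ, ← hf, hf0, hfz]; simp
      rwa [hzo, ← hf] at this
  have hp2 : p = 2 := hp.eq_two_or_odd'.resolve_right hodd
  subst hp2
  have hall := hcase.resolve_left hodd
  have hpow : ∀ i : ZMod m, ∃ j, addOrderOf i = 2 ^ j := fun i => by
    have hfree := hall _ (pfree_pow_smul Nat.prime_two i)
    obtain ⟨j, -, hj⟩ := (Nat.dvd_prime_pow Nat.prime_two).1 (addOrderOf_dvd_of_nsmul_eq_zero hfree)
    exact ⟨j, hj⟩
  obtain ⟨i₁, hi₁⟩ := S.exists_r hm hu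
  obtain ⟨i₀, hi₀, hmin⟩ := exists_min_image (univ.filter fun i => xc f i = 1) addOrderOf
    ⟨i₁, mem_filter.2 ⟨mem_univ _, by rw [xc, hf, cf_ind, if_pos hi₁]⟩⟩
  rw [mem_filter] at hi₀
  obtain ⟨e, he⟩ := hpow i₀
  have he2 : 2 ≤ e := by
    by_contra hlt
    have := hP i₀ (addOrderOf_dvd_iff_nsmul_eq_zero.1 (by
      rw [he]; exact (pow_dvd_pow 2 (show e ≤ 1 by omega)).trans (by simp)))
    rw [hi₀.2] at this
    exact one_ne_zero this
  obtain ⟨a, rfl⟩ : ∃ a, e = a + 1 := ⟨e - 1, by omega⟩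
  have h2m : 2 ^ (a + 1) ∣ m := by
    rw [← he]
    exact addOrderOf_dvd_of_nsmul_eq_zero (by rw [nsmul_eq_mul, ZMod.natCast_self, zero_mul])
  have hlow : ∀ i, 2 ^ a • i = 0 → xc f i = 0 := fun i hi => by
    by_contra hne
    have h01 : xc f i = 1 := by
      rw [xc, hf, cf_ind] at hne ⊢
      split_ifs with h
      · rfl
      · exact absurd (if_neg h) hne
    have h3 := hmin i (mem_filter.2 ⟨mem_univ _, h01⟩)
    have h4 := Nat.le_of_dvd (Nat.two_pow_pos a) (addOrderOf_dvd_of_nsmul_eq_zero hi)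
    have h5 : 2 ^ (a + 1) = 2 * 2 ^ a := by rw [pow_succ, mul_comm]
    have := Nat.two_pow_pos a
    omega
  have hord : ∀ b (i w : ZMod m), 2 ^ b • w = 0 → 2 ^ b • i ≠ 0 → addOrderOf (i + w) = addOrderOf i := by
    intro b i w hw hi
    obtain ⟨j, hj⟩ := hpow i
    have hbj : b < j := by
      by_contra hle
      exact hi (addOrderOf_dvd_iff_nsmul_eq_zero.1 (hj ▸ pow_dvd_pow 2 (by omega)))
    obtain ⟨j, rfl⟩ : ∃ t, j = t + 1 := ⟨j - 1, by omega⟩
    have hw' : ∀ n, b ≤ n → 2 ^ n • w = 0 := fun n hn => by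
      rw [← Nat.sub_add_cancel hn, pow_add, mul_nsmul', hw, nsmul_zero]
    haveI : Fact (Nat.Prime 2) := ⟨Nat.prime_two⟩
    rw [hj]
    refine addOrderOf_eq_prime_pow ?_ ?_
    · rw [nsmul_add, hw' j (by omega), add_zero]
      intro h0
      have := Nat.le_of_dvd (Nat.two_pow_pos j) (addOrderOf_dvd_of_nsmul_eq_zero h0)
      have := Nat.two_pow_pos j
      rw [hj, pow_succ] at *
      omega
    · rw [nsmul_add, hw' (j + 1) (by omega), add_zero, ← hj, addOrderOf_nsmul_eq_zero]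
  set w := ((m / 2 ^ a : ℕ) : ZMod m) with hw
  have hwo : addOrderOf w = 2 ^ a := addOrderOf_div ((pow_dvd_pow 2 (Nat.le_succ a)).trans h2m)
  have hw0 : 2 ^ a • w = 0 := addOrderOf_dvd_iff_nsmul_eq_zero.1 hwo.dvd
  have hXw : ∀ ψ : AddChar (ZMod m) ℂ, ψ w ≠ 1 → ex ψ f = 0 := fun ψ hψ =>
    sum_eq_zero_of_invariant hψ _ fun i => by
      congr 1
      by_cases hi : 2 ^ a • i = 0
      · rw [hlow i hi, hlow (i + w) (by rw [nsmul_add, hi, hw0, add_zero])]
      · exact hrat f (S.mem_ind u) _ _ (hord a i w hw0 hi)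
  -- a character separating the least order
  let ψ₀ : AddChar (ZMod m) ℂ := AddChar.mulShift ZMod.stdAddChar ((2 ^ a : ℕ) : ZMod m)
  have hψ₀ : ∀ i, ψ₀ i = ZMod.stdAddChar (2 ^ a • i) := fun i => by
    rw [AddChar.mulShift_apply, nsmul_eq_mul]
  have hneg : ∀ i, 2 ^ (a + 1) • i = 0 → 2 ^ a • i ≠ 0 → ψ₀ i = -1 := fun i h0 h1 => by
    have hsq : ψ₀ i * ψ₀ i = 1 := by
      rw [hψ₀, ← AddChar.map_add_eq_mul, ← two_nsmul, smul_smul, ← pow_succ', h0, AddChar.map_zero_eq_one]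
    rcases mul_self_eq_one_iff.1 hsq with h | h
    · exfalso
      refine h1 (ZMod.injective_stdAddChar ?_)
      rw [← hψ₀, h, AddChar.map_zero_eq_one]
    · exact h
  have hi₀' : 2 ^ (a + 1) • i₀ = 0 := addOrderOf_dvd_iff_nsmul_eq_zero.1 he.dvd
  have hi₀n : 2 ^ a • i₀ ≠ 0 := fun h => by have := hlow i₀ h; rw [hi₀.2] at this; exact one_ne_zero this
  have hψ1 : ψ₀ ≠ 1 := fun h => by
    have := hneg i₀ hi₀' hi₀n
    rw [h] at this
    norm_num at this
  have hval : ex ψ₀ f = -(2 ^ a : ℂ) := by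
    set G : ZMod m → ℂ := fun i => if 2 ^ (a + 1) • i = 0 then 0 else (xc f i : ℂ) with hG
    have h0 : ∑ i, ψ₀ i * G i = 0 := by
      refine sum_eq_zero_of_invariant (z := i₀) (by rw [hneg i₀ hi₀' hi₀n]; norm_num) G fun i => ?_
      simp only [hG, nsmul_add, hi₀', add_zero]
      split_ifs with h
      · rfl
      · rw [hrat f (S.mem_ind u) _ _ (hord (a + 1) i i₀ hi₀' h)]
    have e1 : ex ψ₀ f = ∑ i ∈ univ.filter (fun i : ZMod m => addOrderOf i = 2 ^ (a + 1)), (-1 : ℂ) := by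
      have : ex ψ₀ f - ∑ i, ψ₀ i * G i = ∑ i ∈ univ.filter (fun i : ZMod m => addOrderOf i = 2 ^ (a + 1)), (-1 : ℂ) := by
        rw [ex, ← sum_sub_distrib, sum_filter]
        refine sum_congr rfl fun i _ => ?_
        simp only [hG]
        haveI : Fact (Nat.Prime 2) := ⟨Nat.prime_two⟩
        by_cases h : 2 ^ (a + 1) • i = 0
        · rw [if_pos h, mul_zero, sub_zero]
          by_cases h' : 2 ^ a • i = 0
          · rw [hlow i h', if_neg]
            · simp
            · intro ho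
              have h7 := Nat.le_of_dvd (Nat.two_pow_pos a) (addOrderOf_dvd_of_nsmul_eq_zero h')
              have := Nat.two_pow_pos a
              rw [ho, pow_succ] at h7
              omega
          · have ho := addOrderOf_eq_prime_pow h' h
            rw [if_pos ho, hneg i h h', show xc f i = 1 from ?_]
            · simp
            · rw [hrat f (S.mem_ind u) i i₀ (ho.trans he.symm)]; exact hi₀.2
        · rw [if_neg h, sub_self, if_neg fun ho => h (addOrderOf_dvd_iff_nsmul_eq_zero.1 ho.dvd)]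
      rwa [h0, sub_zero] at this
    rw [e1, sum_const, IsAddCyclic.card_addOrderOf_eq_totient (by rwa [ZMod.card]),
      Nat.totient_prime_pow Nat.prime_two (Nat.succ_pos a)]
    simp
  obtain ⟨hs1, hs2⟩ := hev ψ₀ hψ1
  have hy : ey ψ₀ f = 0 := by
    rw [hval] at hs2
    simpa [pow_ne_zero] using hs2
  rw [hval, hy, mul_zero, add_zero] at hs1
  have hsq : σ * σ = (2 ^ a : ℤ) * 2 ^ a := by
    have : ((σ * σ : ℤ) : ℂ) = (((2 ^ a : ℤ) * 2 ^ a : ℤ) : ℂ) := by push_cast; linear_combination -hs1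
    exact Int.cast_injective this
  have hbound := S.parseval_bound (σ := σ) (u := u) (w := w) (fun ψ hψ => (hev ψ hψ).1) hXw
  rw [hwo] at hbound
  have habs : ((2 ^ a : ℕ) : ℤ) ≤ |σ| := by
    rcases mul_self_eq_mul_self_iff.1 hsq with h | h <;> simp [h]
  rcases Nat.lt_or_ge a 2 with ha | ha
  swap
  · refine numeric (q := 2 ^ a) ?_ habs hk0 hklt h1 hbound hA
    calc 3 ≤ 2 ^ 2 := by norm_num
      _ ≤ 2 ^ a := Nat.pow_le_pow_right two_pos ha
  obtain rfl : a = 1 := by omega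
  have h4 : σ * σ = 4 := by rw [hsq]; norm_num
  rw [h4] at h1
  obtain ⟨K, hK⟩ : ∃ K, m = 2 ^ K := by
    obtain ⟨j, hj⟩ := hpow (1 : ZMod m)
    exact ⟨j, by rw [← hj, ZMod.addOrderOf_one]⟩
  have hKle : m ≤ 20 := by
    by_contra hbig
    have hmz : (21 : ℤ) ≤ m := by exact_mod_cast (by omega : 21 ≤ m)
    have e : ((m : ℤ) - 4) * ((m : ℤ) - 4) = (k - m) * (k - m) + 12 := by linear_combination h1
    rcases le_total (k - (m : ℤ)) 0 with hh | hh
    · have : k - (m : ℤ) ≥ -((m : ℤ) - 5) := by nlinarith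
      nlinarith
    · have : k - (m : ℤ) ≤ (m : ℤ) - 5 := by nlinarith
      nlinarith
  have hm8 : m = 8 := by
    have hK4 : K ≤ 4 := by
      by_contra h
      have : 2 ^ 5 ≤ 2 ^ K := Nat.pow_le_pow_right two_pos (by omega)
      omega
    interval_cases K <;> subst hK <;> first | rfl | (exfalso; push_cast at h1 hklt; interval_cases k <;> omega)
  subst hm8
  refine S.not_eight hrat hu ?_ ?_ fun i hi => ?_
  · have : addOrderOf i₀ = addOrderOf (2 : ZMod 8) := by
      rw [he, show (2 : ZMod 8) = ((8 / 4 : ℕ) : ZMod 8) from rfl, addOrderOf_div (m := 8) (by norm_num)]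
      norm_num
    have h9 : xc f (2 : ZMod 8) = 1 := by rw [← hrat f (S.mem_ind u) _ _ this]; exact hi₀.2
    by_contra hc
    rw [xc, hf, cf_ind, if_neg hc] at h9
    exact zero_ne_one h9
  · intro hc
    exact huz hc
  · rw [hh (r i), if_neg (by simpa [one_def, -r_zero] using hi), h4]

end PSRing

/-- Every primitive Schur ring over a dihedral group is trivial. -/
theorem PSRing.trivial_ring (S : PSRing m) {a b : DihedralGroup m} (ha : a ≠ 1) (hb : b ≠ 1) : S.cl.r a b := by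
  by_cases hm : m = 1
  · subst hm
    have : a = b := by
      cases a with
      | r i => exact absurd (by rw [Subsingleton.elim i 0]; rfl) ha
      | sr i =>
        cases b with
        | r j => exact absurd (by rw [Subsingleton.elim j 0]; rfl) hb
        | sr j => rw [Subsingleton.elim i j]
    exact this ▸ S.cl.iseqv.refl a
  · exact S.trivial_of_rat hm
      ((S.rat hm).trivial_rational (fun f hf => S.rat_rat' hm hf) hm) a b ha hb

end Cfsg.Agent.H78.Dihedral
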