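import Cfsg.Agent.H78.Dihedral.Main

/-!
The Schur ring of a primitive group containing a regular dihedral subgroup, and Wielandt's theorem.
-/

set_option autoImplicit false
set_option linter.unusedSectionVars false

namespace Cfsg.Agent.H78.Dihedral

open DihedralGroup Finset MulAction

variable {G Ω : Type*} [Group G] [MulAction G Ω] {m : ℕ} [NeZero m]

/-- Orbits of the point stabiliser, read on a regular subgroup. -/
def orbitCl (ι : DihedralGroup m →* G) (ω : Ω) : Setoid (DihedralGroup m) where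
  r a b := ∃ h : G, h • ω = ω ∧ h • ι a • ω = ι b • ω
  iseqv := ⟨fun _ => ⟨1, one_smul _ _, one_smul _ _⟩,
    fun ⟨h, h1, h2⟩ => ⟨h⁻¹, inv_smul_eq_iff.2 h1.symm, inv_smul_eq_iff.2 h2.symm⟩,
    fun ⟨h, h1, h2⟩ ⟨k, k1, k2⟩ => ⟨k * h, by rw [mul_smul, h1, k1], by rw [mul_smul, h2, k2]⟩⟩

theorem two_transitive_of_dihedral (ι : DihedralGroup m →* G) (ω : Ω)
    (hbij : Function.Bijective fun d => ι d • ω) (hprim : IsPreprimitive G Ω) :
    IsMultiplyPretransitive G Ω 2 := by
  classical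
  let e : DihedralGroup m ≃ Ω := Equiv.ofBijective _ hbij
  have he : ∀ d, e d = ι d • ω := fun d => rfl
  let S : PSRing m :=
    { cl := orbitCl ι ω
      one_cl := fun d ⟨h, h1, h2⟩ => by
        refine (hbij.1 (?_ : ι 1 • ω = ι d • ω)).symm
        rw [map_one, one_smul] at h2 ⊢
        rwa [h1] at h2
      inv_cl := fun a b ⟨h, h1, h2⟩ => by
        refine ⟨(ι b)⁻¹ * h * ι a, ?_, ?_⟩
        · rw [mul_smul, mul_smul, h2, inv_smul_smul]
        · rw [mul_smul, map_inv, smul_inv_smul, mul_smul, h1, ← map_inv]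
      mul_mem := fun f g hf hg a b ⟨h, h1, h2⟩ => by
        let π : DihedralGroup m ≃ DihedralGroup m :=
          (e.trans (MulAction.toPerm h)).trans e.symm
        have hπ : ∀ y, ι (π y) • ω = h • ι y • ω := fun y => by
          rw [← he, ← he]; simp [π]
        rw [cf_mul, cf_mul, ← Equiv.sum_comp π (fun y => cf f y * cf g (y⁻¹ * b))]
        refine sum_congr rfl fun y _ => ?_
        rw [hf y (π y) ⟨h, h1, (hπ y).symm⟩, hg (y⁻¹ * a) ((π y)⁻¹ * b)
          ⟨(ι (π y))⁻¹ * h * ι y, by rw [mul_smul, mul_smul, ← hπ y, inv_smul_smul], by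
            rw [map_mul, map_mul, map_inv, map_inv, mul_smul, mul_smul, mul_smul, mul_smul, smul_inv_smul, h2]⟩]
      prim := fun L hL => by
        set B : Set Ω := (fun d => ι d • ω) '' (L : Set (DihedralGroup m))
        have hB : IsBlock G B := by
          refine isBlock_iff_smul_eq_of_mem.2 ?_
          rintro g _ ⟨l, hl, rfl⟩ ⟨l', hl', hx⟩
          set h := (ι l')⁻¹ * g * ι l with hh
          have h1 : h • ω = ω := by
            rw [hh, mul_smul, mul_smul]
            exact inv_smul_eq_iff.2 hx.symm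
          have hmove : ∀ k : G, k • ω = ω → ∀ c ∈ L, ∃ c' ∈ L, k • ι c • ω = ι c' • ω := fun k hk c hc => by
            obtain ⟨c', hc'⟩ := hbij.2 (k • ι c • ω)
            exact ⟨c', hL c c' ⟨k, hk, hc'.symm⟩ hc, hc'.symm⟩
          have hg : ∀ x : Ω, g • x = ι l' • h • (ι l)⁻¹ • x := fun x => by
            rw [hh, mul_smul, mul_smul, smul_inv_smul, smul_inv_smul]
          clear_value h
          ext x
          constructor
          · rintro ⟨_, ⟨c, hc, rfl⟩, rfl⟩
            obtain ⟨c', hc', he'⟩ := hmove h h1 (l⁻¹ * c) (L.mul_mem (L.inv_mem hl) hc)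
            refine ⟨l' * c', L.mul_mem hl' hc', ?_⟩
            show ι (l' * c') • ω = g • ι c • ω
            rw [map_mul, mul_smul, ← he', hg, map_mul, map_inv, mul_smul]
          · rintro ⟨c, hc, rfl⟩
            obtain ⟨c', hc', he'⟩ := hmove h⁻¹ (inv_smul_eq_iff.2 h1.symm) (l'⁻¹ * c) (L.mul_mem (L.inv_mem hl') hc)
            refine ⟨ι (l * c') • ω, ⟨_, L.mul_mem hl hc', rfl⟩, ?_⟩
            show g • ι (l * c') • ω = ι c • ω
            rw [hg, map_mul, mul_smul, inv_smul_smul, ← he', smul_inv_smul, map_mul, map_inv, mul_smul, smul_inv_smul]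
        rcases hprim.isTrivialBlock_of_isBlock hB with h | h
        · refine Or.inl ((Subgroup.eq_bot_iff_forall _).2 fun l hl => hbij.1 ?_)
          exact h ⟨l, hl, rfl⟩ ⟨1, L.one_mem, rfl⟩
        · refine Or.inr ((Subgroup.eq_top_iff' L).2 fun d => ?_)
          obtain ⟨d', hd', he'⟩ := (h.symm ▸ Set.mem_univ (ι d • ω) : ι d • ω ∈ B)
          exact hbij.1 he' ▸ hd' }
  rw [is_two_pretransitive_iff]
  intro a b c d hab hcd
  obtain ⟨a', rfl⟩ := hbij.2 a
  obtain ⟨c', rfl⟩ := hbij.2 c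
  obtain ⟨b', rfl⟩ := hbij.2 b
  obtain ⟨d', rfl⟩ := hbij.2 d
  have ne1 : a'⁻¹ * b' ≠ 1 := fun h => hab (by rw [inv_mul_eq_one.1 h])
  have ne2 : c'⁻¹ * d' ≠ 1 := fun h => hcd (by rw [inv_mul_eq_one.1 h])
  obtain ⟨h, h1, h2⟩ := S.trivial_ring ne1 ne2
  refine ⟨ι c' * h * (ι a')⁻¹, ?_, ?_⟩
  · rw [mul_smul, mul_smul, inv_smul_smul, h1]
  · rw [map_mul, map_inv, map_mul, map_inv, mul_smul, mul_smul] at h2
    rw [mul_smul, mul_smul, h2, smul_inv_smul]

end Cfsg.Agent.H78.Dihedral
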