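import Cfsg.Agent.H78.Dihedral.SRing

/-!
The rational fusion of a primitive Schur ring over a dihedral group.
-/

set_option autoImplicit false
set_option linter.unusedSectionVars false

namespace Cfsg.Agent.H78.Dihedral

open DihedralGroup Finset

variable {m : ℕ} [NeZero m]

/-- The rotation part depends only on the order of the rotation. -/
def Rat' (f : GR m) : Prop := ∀ i j, addOrderOf i = addOrderOf j → xc f i = xc f j

theorem exists_unit_of_addOrderOf {i j : ZMod m} (h : addOrderOf i = addOrderOf j) :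
    ∃ u : (ZMod m)ˣ, j = u * i := by
  have aux : ∀ a : ZMod m, ∃ d : ℕ, d ∣ m ∧ (∃ u : (ZMod m)ˣ, a = u * d) ∧ addOrderOf a = m / d := fun a => by
    obtain ⟨d, hd, u, hu, rfl⟩ := ZMod.eq_unit_mul_divisor a
    refine ⟨d, hd, ⟨hu.unit, rfl⟩, ?_⟩
    rw [show u * (d : ZMod m) = AddMonoidHom.mulLeft u (d : ZMod m) from rfl,
      addOrderOf_injective _ (fun x y hxy => hu.mul_left_cancel hxy), ZMod.addOrderOf_coe _ (NeZero.ne m),
      Nat.gcd_eq_right hd]
  obtain ⟨d, hd, ⟨u, rfl⟩, h1⟩ := aux i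
  obtain ⟨e, he, ⟨v, rfl⟩, h2⟩ := aux j
  have hde : d = e := by
    have hq : m / d = m / e := by rw [← h1, ← h2, h]
    rw [← Nat.div_div_self hd (NeZero.ne m), hq, Nat.div_div_self he (NeZero.ne m)]
  subst hde
  exact ⟨v * u⁻¹, by rw [Units.val_mul, mul_assoc, Units.inv_mul_cancel_left]⟩

theorem exists_big_prime (u : (ZMod m)ˣ) (B : ℕ) : ∃ l : ℕ, B < l ∧ l.Prime ∧ Odd l ∧ (l : ZMod m) = u := by
  obtain ⟨l, hl, hp, hu⟩ := Nat.forall_exists_prime_gt_and_eq_mod u.isUnit (B + 2)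
  exact ⟨l, by omega, hp, hp.odd_of_ne_two (by omega), hu⟩

theorem int_fermat {l : ℕ} (hl : l.Prime) (a : ℤ) : (l : ℤ) ∣ a ^ l - a := by
  haveI := Fact.mk hl
  rw [← ZMod.intCast_zmod_eq_zero_iff_dvd]
  simp

namespace PSRing

variable (S : PSRing m)

/-- The rotation part of a power by a prime prime to `m`. -/
theorem xc_pow_unit {l : ℕ} (hl : l.Prime) (hodd : Odd l) {u : (ZMod m)ˣ} (hu : (l : ZMod m) = u) {f : GR m}
    (hf : S.Mem f) (i : ZMod m) : (l : ℤ) ∣ xc (f ^ l) i - xc f (↑u⁻¹ * i) := by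
  classical
  have h := xc_pow_prime hl hodd (S.xc_neg hf) i
  have hs : univ.filter (fun j : ZMod m => l • j = i) = {↑u⁻¹ * i} := by
    ext j
    simp [nsmul_eq_mul, hu]
    constructor
    · rintro rfl; simp
    · rintro rfl; simp
  rwa [hs, sum_singleton] at h

theorem rat_mul (hm : m ≠ 1) {f g : GR m} (hf : S.Mem f) (hg : S.Mem g) (hf' : Rat' f) (hg' : Rat' g) :
    Rat' (f * g) := by
  intro i j hij
  obtain ⟨u, rfl⟩ := exists_unit_of_addOrderOf hij
  obtain ⟨l, hlB, hl, hodd, hu⟩ := exists_big_prime u (xc (f * g) i - xc (f * g) (u * i)).natAbs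
  have hpow : ∀ k : GR m, S.Mem k → Rat' k → Dvd' (l : ℤ) (k ^ l - k) := fun k hk hk' =>
    S.dvd_of_xc hm (S.mem_sub (S.mem_pow hk l) hk) fun x => by
      rw [xc_sub]
      have := S.xc_pow_unit hl hodd hu hk x
      rwa [hk' (↑u⁻¹ * x) x (addOrderOf_injective (AddMonoidHom.mulLeft (↑u⁻¹ : ZMod m))
        (fun a b hab => u⁻¹.isUnit.mul_left_cancel hab) x)] at this
  have hdvd : Dvd' (l : ℤ) ((f * g) ^ l - f * g) := by
    rw [(S.mul_comm' hf hg).mul_pow, show f ^ l * g ^ l - f * g = (f ^ l - f) * g ^ l + f * (g ^ l - g) by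
      rw [sub_mul, mul_sub]; abel]
    exact ((hpow f hf hf').mul _).add ((hpow g hg hg').mul_left f)
  have h1 := hdvd (r (u * i))
  have h2 := S.xc_pow_unit hl hodd hu (S.mul_mem f g hf hg) (u * i)
  rw [Units.inv_mul_cancel_left] at h2
  rw [cf_sub] at h1
  have h3 := dvd_sub h1 h2
  simp only [xc] at h3 ⊢
  rw [show ∀ a b c : ℤ, a - b - (a - c) = c - b from fun a b c => by ring] at h3
  refine sub_eq_zero.1 (Int.eq_zero_of_abs_lt_dvd h3 ?_)
  rw [Int.abs_eq_natAbs]
  exact_mod_cast hlB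

/-- The fusion by rational members. -/
def rcl : Setoid (DihedralGroup m) where
  r a b := ∀ f, S.Mem f → Rat' f → cf f a = cf f b
  iseqv := ⟨fun _ _ _ _ => rfl, fun h f hf hf' => (h f hf hf').symm,
    fun h h' f hf hf' => (h f hf hf').trans (h' f hf hf')⟩

theorem mem_of_rcl {f : GR m} (hf : Mem' S.rcl f) : S.Mem f ∧ Rat' f :=
  ⟨fun a b h => hf a b fun _ hk _ => hk a b h, fun i j h => hf _ _ fun _ _ hk => hk i j h⟩

theorem rat_one : Rat' (1 : GR m) := fun i j h => by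
  classical
  have hij : i = 0 ↔ j = 0 := by rw [← AddMonoid.addOrderOf_eq_one_iff, h, AddMonoid.addOrderOf_eq_one_iff]
  simp only [xc, cf_one, one_def, r.injEq]
  simp [hij]

/-- The rational fusion is a primitive Schur ring. -/
def rat (hm : m ≠ 1) : PSRing m where
  cl := S.rcl
  one_cl d h := by
    classical
    have := h 1 S.mem_one rat_one
    rw [cf_one, cf_one, if_pos rfl] at this
    by_contra hd
    rw [if_neg hd] at this
    exact one_ne_zero this
  inv_cl a b h f hf hf' := by rw [S.cf_inv hf, S.cf_inv hf]; exact h f hf hf'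
  mul_mem f g hf hg := fun _ _ h => by
    obtain ⟨hf, hf'⟩ := S.mem_of_rcl hf
    obtain ⟨hg, hg'⟩ := S.mem_of_rcl hg
    exact h _ (S.mul_mem f g hf hg) (S.rat_mul hm hf hg hf' hg')
  prim L hL := S.prim L fun a b h ha => hL a b (fun _ hk _ => hk a b h) ha

theorem rat_rat' (hm : m ≠ 1) {f : GR m} (hf : (S.rat hm).Mem f) : Rat' f := (S.mem_of_rcl hf).2

theorem deg_eq_sum (f : GR m) : deg f = ∑ x, cf f x := by rw [deg, sum_dih]; rfl

/-- If the rational fusion is trivial, then the ring is trivial. -/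
theorem trivial_of_rat (hm : m ≠ 1) (h : ∀ a b, a ≠ 1 → b ≠ 1 → S.rcl.r a b) :
    ∀ a b, a ≠ 1 → b ≠ 1 → S.cl.r a b := by
  classical
  intro d b hd hb
  set f := S.ind d with hfdef
  have hf : S.Mem f := S.mem_ind d
  have hf01 : ∀ x, 0 ≤ cf f x ∧ cf f x ≤ 1 := fun x => by rw [hfdef, cf_ind]; split_ifs <;> simp
  have hf0 : cf f 1 = 0 := by
    rw [hfdef, cf_ind, if_neg fun h1 => hd (S.one_cl d (S.cl.iseqv.symm h1))]
  choose l hlB hl hlodd hlu using fun u : (ZMod m)ˣ => exists_big_prime u (4 * m)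
  set F : (ZMod m)ˣ → GR m := fun u => mk' fun x => cf (f ^ l u) x % (l u : ℤ) with hF
  have hFmem : ∀ u, S.Mem (F u) := fun u a c hac => by
    simp only [hF, cf_mk']; rw [S.mem_pow hf _ a c hac]
  have hFx : ∀ u i, xc (F u) i = xc f (↑u⁻¹ * i) := fun u i => by
    have h1 := S.xc_pow_unit (hl u) (hlodd u) (hlu u) hf i
    simp only [xc, hF, cf_mk'] at h1 ⊢
    rw [Int.emod_eq_emod_iff_emod_sub_eq_zero.2 (Int.emod_eq_zero_of_dvd h1)]
    have := hf01 (r (↑u⁻¹ * i))
    have := hlB u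
    have := NeZero.pos m
    exact Int.emod_eq_of_lt (by omega) (by omega)
  have hF01 : ∀ u x, 0 ≤ cf (F u) x ∧ cf (F u) x ≤ 1 := fun u x => by
    rcases eq_or_ne x 1 with rfl | hx
    · rw [one_def, ← xc, hFx]; exact hf01 _
    · obtain ⟨i, hi⟩ := S.exists_r hm hx
      rw [hFmem u _ _ hi, ← xc, hFx]; exact hf01 _
  have hFd : ∀ u, Dvd' (l u : ℤ) (F u - f ^ l u) := fun u x => by
    rw [cf_sub]; simp only [hF, cf_mk']
    exact dvd_sub_comm.1 (Int.dvd_self_sub_emod)
  have hbd : ∀ k : GR m, (∀ x, 0 ≤ cf k x ∧ cf k x ≤ 1) → |deg k| ≤ 2 * m ∧ |sgn k| ≤ 2 * m := fun k hk => by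
    have e : ∀ g : ZMod m → DihedralGroup m, 0 ≤ ∑ i, cf k (g i) ∧ ∑ i, cf k (g i) ≤ (m : ℤ) := fun g =>
      ⟨sum_nonneg fun i _ => (hk _).1, (sum_le_sum fun i _ => (hk (g i)).2).trans (by simp)⟩
    obtain ⟨a0, a1⟩ := e r
    obtain ⟨b0, b1⟩ := e sr
    constructor <;> rw [abs_le] <;> simp only [deg, sgn, xc, yc] <;> constructor <;> omega
  have hdeg : ∀ u, deg (F u) = deg f ∧ sgn (F u) = sgn f := fun u => by
    obtain ⟨d1, s1⟩ := hbd _ (hF01 u)
    obtain ⟨d2, s2⟩ := hbd _ hf01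
    have := hlB u
    constructor
    · refine sub_eq_zero.1 (Int.eq_zero_of_abs_lt_dvd ?_
        (lt_of_le_of_lt ((abs_sub _ _).trans (add_le_add d1 d2)) (by omega) : _ < (l u : ℤ)))
      have := dvd_add (hFd u).deg_sub (int_fermat (hl u) (deg f))
      rwa [deg_pow, sub_add_sub_cancel] at this
    · refine sub_eq_zero.1 (Int.eq_zero_of_abs_lt_dvd ?_
        (lt_of_le_of_lt ((abs_sub _ _).trans (add_le_add s1 s2)) (by omega) : _ < (l u : ℤ)))
      have := dvd_add (hFd u).sgn_sub (int_fermat (hl u) (sgn f))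
      rwa [sgn_pow, sub_add_sub_cancel] at this
  set H := ∑ u, F u with hH
  have hHmem : S.Mem H := fun a c hac => by
    rw [hH, cf_sum, cf_sum]; exact sum_congr rfl fun u _ => hFmem u a c hac
  have hHrat : Rat' H := fun i j hij => by
    obtain ⟨v, rfl⟩ := exists_unit_of_addOrderOf hij
    rw [hH, xc_sum, xc_sum, ← Equiv.sum_comp (Equiv.mulRight v) fun u => xc (F u) (v * i)]
    refine sum_congr rfl fun u _ => ?_
    rw [hFx, hFx, Equiv.coe_mulRight, mul_inv_rev, ← mul_assoc (↑(v⁻¹ * u⁻¹) : ZMod m), ← Units.val_mul,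
      mul_comm v⁻¹, mul_assoc, inv_mul_cancel, mul_one]
  have hc : ∀ x, x ≠ 1 → cf H x = cf H d := fun x hx => h x d hx hd H hHmem hHrat
  have hH1 : cf H 1 = 0 := by
    rw [hH, cf_sum]
    refine sum_eq_zero fun u _ => ?_
    rw [one_def, ← xc, hFx, mul_zero, xc, ← one_def, hf0]
  have hsx : ∑ i, xc H i = ((m : ℤ) - 1) * cf H d := by
    rw [← sum_erase_add _ _ (mem_univ (0 : ZMod m))]
    simp only [xc]
    rw [← one_def, hH1, add_zero,
      sum_congr rfl fun i hi => hc (r i) (by simpa [one_def, -r_zero] using (mem_erase.1 hi).1)]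
    simp [card_erase_of_mem, NeZero.one_le]
  have hsy : ∑ i, yc H i = (m : ℤ) * cf H d := by
    simp only [yc]
    rw [sum_congr rfl fun i _ => hc (sr i) (fun h0 => by cases h0)]
    simp
  set φ : ℤ := ((univ : Finset (ZMod m)ˣ).card : ℤ) with hφ
  have hφpos : 0 < φ := by rw [hφ]; exact_mod_cast card_pos.2 ⟨1, mem_univ _⟩
  have hdH : deg H = φ * deg f ∧ sgn H = φ * sgn f := by
    have hs : ∀ g : ZMod m → DihedralGroup m, ∑ i, cf H (g i) = ∑ u, ∑ i, cf (F u) (g i) := fun g => by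
      rw [sum_comm]; exact sum_congr rfl fun i _ => cf_sum _ _ _
    constructor
    · rw [deg, show (∑ i, xc H i) + ∑ i, yc H i = _ from congrArg₂ (· + ·) (hs r) (hs sr), ← sum_add_distrib,
        sum_congr rfl fun u _ => (show (∑ i, cf (F u) (r i)) + ∑ i, cf (F u) (sr i) = deg f from (hdeg u).1)]
      simp [hφ]
    · rw [sgn, show (∑ i, xc H i) - ∑ i, yc H i = _ from congrArg₂ (· - ·) (hs r) (hs sr), ← sum_sub_distrib,
        sum_congr rfl fun u _ => (show (∑ i, cf (F u) (r i)) - ∑ i, cf (F u) (sr i) = sgn f from (hdeg u).2)]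
      simp [hφ]
  have hkey : deg f = -(sgn f * (2 * m - 1)) := by
    refine mul_left_cancel₀ hφpos.ne' ?_
    have e1 : φ * deg f = (2 * m - 1) * cf H d := by rw [← hdH.1, deg, hsx, hsy]; ring
    have e2 : φ * sgn f = -cf H d := by rw [← hdH.2, sgn, hsx, hsy]; ring
    linear_combination e1 + (2 * (m : ℤ) - 1) * e2
  have hle : ∀ x, cf f x ≤ deg f := fun x => by
    rw [deg_eq_sum]; exact single_le_sum (fun y _ => (hf01 y).1) (mem_univ x)
  have hpos : 1 ≤ deg f := by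
    refine le_trans (le_of_eq ?_) (hle d)
    rw [hfdef, cf_ind, if_pos (S.cl.iseqv.refl d)]
  have hge : (2 * m - 1 : ℤ) ≤ deg f := by
    have hm2 : (1 : ℤ) ≤ m := by exact_mod_cast NeZero.one_le
    rcases le_or_gt 0 (sgn f) with hs | hs
    · nlinarith [mul_nonneg hs (show (0 : ℤ) ≤ 2 * m - 1 by omega)]
    · nlinarith [mul_le_mul_of_nonneg_right (show (1 : ℤ) ≤ -sgn f by omega) (show (0 : ℤ) ≤ 2 * m - 1 by omega)]
  by_contra hdb
  have hfb : cf f b = 0 := by rw [hfdef, cf_ind, if_neg hdb]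
  have hcard : (Fintype.card (DihedralGroup m) : ℤ) = 2 * m := by rw [DihedralGroup.card]; push_cast; ring
  have : deg f ≤ ∑ x ∈ (univ.erase (1 : DihedralGroup m)).erase b, (1 : ℤ) := by
    rw [deg_eq_sum, ← sum_erase_add _ _ (mem_univ (1 : DihedralGroup m)), hf0, add_zero,
      ← sum_erase (s := univ.erase 1) hfb]
    exact sum_le_sum fun x _ => (hf01 x).2
  rw [sum_const, card_erase_of_mem (by simp [hb]), card_erase_of_mem (mem_univ _), card_univ, nsmul_one] at this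
  have : 2 ≤ Fintype.card (DihedralGroup m) := by rw [DihedralGroup.card]; have := NeZero.one_le (n := m); omega
  push_cast [Nat.cast_sub, show 1 ≤ Fintype.card (DihedralGroup m) - 1 by omega,
    show 1 ≤ Fintype.card (DihedralGroup m) by omega] at *
  omega

end PSRing

end Cfsg.Agent.H78.Dihedral
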