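import Cfsg.Agent.H78.Dihedral.Algebra

/-!
Primitive Schur rings over a dihedral group: basic properties.
-/

set_option autoImplicit false
set_option linter.unusedSectionVars false

namespace Cfsg.Agent.H78.Dihedral

open DihedralGroup Finset

variable {m : ℕ} [NeZero m]

/-- The functions constant on the classes of a relation. -/
def Mem' (c : Setoid (DihedralGroup m)) (f : GR m) : Prop := ∀ a b, c.r a b → cf f a = cf f b

/-- A primitive Schur ring, given by its partition. -/
structure PSRing (m : ℕ) [NeZero m] where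
  cl : Setoid (DihedralGroup m)
  one_cl : ∀ d, cl.r 1 d → d = 1
  inv_cl : ∀ a b, cl.r a b → cl.r a⁻¹ b⁻¹
  mul_mem : ∀ f g, Mem' cl f → Mem' cl g → Mem' cl (f * g)
  prim : ∀ L : Subgroup (DihedralGroup m), (∀ a b, cl.r a b → a ∈ L → b ∈ L) → L = ⊥ ∨ L = ⊤

namespace PSRing

variable (S : PSRing m)

/-- Membership in the ring. -/
abbrev Mem (f : GR m) : Prop := Mem' S.cl f

theorem mem_one : S.Mem (1 : GR m) := fun a b h => by
  classical
  rw [cf_one, cf_one]
  have : a = 1 ↔ b = 1 :=
    ⟨fun ha => S.one_cl b (ha ▸ h), fun hb => S.one_cl a (S.cl.iseqv.symm (hb ▸ h))⟩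
  simp [this]

theorem mem_sub {f g : GR m} (hf : S.Mem f) (hg : S.Mem g) : S.Mem (f - g) :=
  fun a b h => by rw [cf_sub, cf_sub, hf a b h, hg a b h]

theorem mem_add {f g : GR m} (hf : S.Mem f) (hg : S.Mem g) : S.Mem (f + g) :=
  fun a b h => by rw [cf_add, cf_add, hf a b h, hg a b h]

theorem mem_zsmul {f : GR m} (c : ℤ) (hf : S.Mem f) : S.Mem (c • f) :=
  fun a b h => by rw [cf_zsmul, cf_zsmul, hf a b h]

theorem mem_pow {f : GR m} (hf : S.Mem f) (n : ℕ) : S.Mem (f ^ n) := by
  induction n with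
  | zero => simpa using S.mem_one
  | succ n ih => rw [pow_succ]; exact S.mul_mem _ _ ih hf

open Classical in
/-- The indicator of the class of `d`. -/
noncomputable def ind (d : DihedralGroup m) : GR m := mk' fun x => if S.cl.r d x then 1 else 0

open Classical in
theorem cf_ind (d x : DihedralGroup m) : cf (S.ind d) x = if S.cl.r d x then 1 else 0 := by simp [ind]

theorem mem_ind (d : DihedralGroup m) : S.Mem (S.ind d) := fun a b h => by
  rw [cf_ind, cf_ind]
  by_cases ha : S.cl.r d a
  · rw [if_pos ha, if_pos (S.cl.iseqv.trans ha h)]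
  · rw [if_neg ha, if_neg fun hb => ha (S.cl.iseqv.trans hb (S.cl.iseqv.symm h))]

theorem cf_ind_nonneg (d x : DihedralGroup m) : 0 ≤ cf (S.ind d) x := by
  rw [cf_ind]; split_ifs <;> simp

/-- A product of two members of classes spreads over a class of products. -/
theorem exists_mul_of_cl {a b z : DihedralGroup m} (h : S.cl.r (a * b) z) :
    ∃ u w, S.cl.r a u ∧ S.cl.r b w ∧ u * w = z := by
  classical
  have hpos : 0 < cf (S.ind a * S.ind b) (a * b) := by
    rw [cf_mul]
    refine lt_of_lt_of_le ?_ (single_le_sum (fun y _ => mul_nonneg (S.cf_ind_nonneg _ _) (S.cf_ind_nonneg _ _))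
      (mem_univ a))
    rw [cf_ind, cf_ind, if_pos (S.cl.iseqv.refl a), inv_mul_cancel_left, if_pos (S.cl.iseqv.refl b)]
    norm_num
  rw [S.mul_mem _ _ (S.mem_ind a) (S.mem_ind b) _ _ h, cf_mul] at hpos
  obtain ⟨y, -, hy⟩ := exists_ne_zero_of_sum_ne_zero hpos.ne'
  rw [cf_ind, cf_ind] at hy
  by_cases h1 : S.cl.r a y
  · by_cases h2 : S.cl.r b (y⁻¹ * z)
    · exact ⟨y, _, h1, h2, mul_inv_cancel_left y z⟩
    · simp [h2] at hy
  · simp [h1] at hy

/-- A set of elements closed under classes generates a subgroup closed under classes. -/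
theorem closure_eq {Z : Set (DihedralGroup m)} (hZ : ∀ a b, S.cl.r a b → a ∈ Z → b ∈ Z)
    {d : DihedralGroup m} (hd : d ∈ Z) (hd1 : d ≠ 1) : Subgroup.closure Z = ⊤ := by
  refine (S.prim _ fun a b hab ha => ?_).resolve_left fun h => hd1 ?_
  · rw [← Subgroup.mem_toSubmonoid, Subgroup.closure_toSubmonoid_of_finite] at ha
    revert b
    induction ha using Submonoid.closure_induction with
    | mem x hx => exact fun b hb => Subgroup.subset_closure (hZ x b hb hx)
    | one => exact fun b hb => by rw [S.one_cl b hb]; exact one_mem _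
    | mul x y _ _ hx hy =>
      intro b hb
      obtain ⟨u, w, hu, hw, rfl⟩ := S.exists_mul_of_cl hb
      exact Subgroup.mul_mem _ (hx u hu) (hy w hw)
  · exact Subgroup.mem_bot.1 (h ▸ Subgroup.subset_closure hd)

/-- Every non-trivial class contains a reflection. -/
theorem exists_sr {d : DihedralGroup m} (hd : d ≠ 1) : ∃ i, S.cl.r d (sr i) := by
  by_contra h
  push Not at h
  let A : Subgroup (DihedralGroup m) :=
    { carrier := {x | ∃ i, x = r i}
      one_mem' := ⟨0, one_def⟩
      mul_mem' := by rintro _ _ ⟨i, rfl⟩ ⟨j, rfl⟩; exact ⟨i + j, r_mul_r i j⟩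
      inv_mem' := by rintro _ ⟨i, rfl⟩; exact ⟨-i, inv_r i⟩ }
  have h2 : Subgroup.closure {x | S.cl.r d x} ≤ A := by
    rw [Subgroup.closure_le]
    intro x hx
    cases x with
    | r i => exact ⟨i, rfl⟩
    | sr i => exact absurd hx (h i)
  rw [S.closure_eq (Z := {x | S.cl.r d x}) (fun a b hab ha => S.cl.iseqv.trans ha hab) (S.cl.iseqv.refl d) hd] at h2
  obtain ⟨i, hi⟩ := h2 (Subgroup.mem_top (sr (0 : ZMod m)))
  cases hi

/-- Classes are symmetric. -/
theorem cl_inv (d : DihedralGroup m) : S.cl.r d d⁻¹ := by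
  rcases eq_or_ne d 1 with rfl | hd
  · rw [inv_one]
  obtain ⟨i, hi⟩ := S.exists_sr hd
  have := S.inv_cl _ _ hi
  rw [inv_sr] at this
  exact S.cl.iseqv.trans hi (S.cl.iseqv.symm this)

theorem cf_inv {f : GR m} (hf : S.Mem f) (d : DihedralGroup m) : cf f d⁻¹ = cf f d := (hf _ _ (S.cl_inv d)).symm

theorem xc_neg {f : GR m} (hf : S.Mem f) (i : ZMod m) : xc f (-i) = xc f i := by
  rw [xc, ← inv_r, S.cf_inv hf, xc]

/-- The ring is commutative. -/
theorem mul_comm' {f g : GR m} (hf : S.Mem f) (hg : S.Mem g) : Commute f g := by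
  refine cf_ext fun d => ?_
  rw [← S.cf_inv (S.mul_mem f g hf hg) d, cf_mul, cf_mul, ← Equiv.sum_comp (Equiv.mulLeft d) fun w =>
    cf g w * cf f (w⁻¹ * d)]
  refine sum_congr rfl fun y _ => ?_
  simp only [Equiv.coe_mulLeft, mul_inv_rev, inv_mul_cancel_right]
  rw [S.cf_inv hf, ← S.cf_inv hg (d * y), mul_inv_rev, mul_comm]

/-- Every non-trivial class contains a rotation. -/
theorem exists_r (hm : m ≠ 1) {d : DihedralGroup m} (hd : d ≠ 1) : ∃ i, S.cl.r d (r i) := by
  by_contra h
  push Not at h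
  have hB : PureB (S.ind d) := fun i => by rw [xc, cf_ind, if_neg (h i)]
  have hA := hB.mul hB
  have hsq : ∀ x, x ≠ 1 → cf (S.ind d * S.ind d) x = 0 := fun x hx => by
    obtain ⟨i, hi⟩ := S.exists_sr hx
    rw [S.mul_mem _ _ (S.mem_ind d) (S.mem_ind d) _ _ hi]
    exact hA i
  have huniq : ∀ x y, S.cl.r d x → S.cl.r d y → x = y := by
    intro x y hx hy
    by_contra hne
    have hxy : x⁻¹ * y ≠ 1 := fun h0 => hne (inv_mul_eq_one.1 h0)
    have h0 := hsq _ hxy
    rw [cf_mul] at h0
    have := (sum_eq_zero_iff_of_nonneg fun z _ => mul_nonneg (S.cf_ind_nonneg _ _) (S.cf_ind_nonneg _ _)).1 h0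
      x⁻¹ (mem_univ _)
    rw [S.cf_inv (S.mem_ind d), inv_inv, mul_inv_cancel_left, cf_ind, cf_ind, if_pos hx, if_pos hy] at this
    norm_num at this
  cases d with
  | r i => exact h i (S.cl.iseqv.refl _)
  | sr i =>
    have h2 : Subgroup.closure {x | S.cl.r (sr i) x} ≤ Subgroup.zpowers (sr i) := by
      rw [Subgroup.closure_le]
      intro x hx
      rw [huniq x _ hx (S.cl.iseqv.refl _)]
      exact Subgroup.mem_zpowers _
    rw [S.closure_eq (Z := {x | S.cl.r (sr i) x}) (fun a b hab ha => S.cl.iseqv.trans ha hab)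
      (S.cl.iseqv.refl _) hd, top_le_iff] at h2
    have := Subgroup.card_top (G := DihedralGroup m)
    rw [← h2, Nat.card_zpowers, orderOf_sr, DihedralGroup.nat_card] at this
    omega

/-- A member is determined by its rotation part. -/
theorem dvd_of_xc (hm : m ≠ 1) {q : ℤ} {f : GR m} (hf : S.Mem f) (h : ∀ i, q ∣ xc f i) : Dvd' q f := by
  intro d
  rcases eq_or_ne d 1 with rfl | hd
  · exact h 0
  · obtain ⟨i, hi⟩ := S.exists_r hm hd
    rw [hf _ _ hi]; exact h i

/-- A member all of whose non-trivial coefficients at rotations are divisible is congruent to a scalar. -/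
theorem dvd_sub_scalar (hm : m ≠ 1) {q : ℤ} {f : GR m} (hf : S.Mem f) (h : ∀ i, i ≠ 0 → q ∣ xc f i) :
    Dvd' q (f - cf f 1 • 1) := by
  refine S.dvd_of_xc hm (S.mem_sub hf (S.mem_zsmul _ S.mem_one)) fun i => ?_
  classical
  rw [xc, cf_sub, cf_zsmul, cf_one]
  by_cases hi : i = 0
  · subst hi; simp [one_def, -r_zero]
  · rw [if_neg (by simpa [one_def, -r_zero] using hi), mul_zero, sub_zero]; exact h i hi

/-- A right translation fixing a member fixes all of it. -/
theorem eq_of_invariant {f : GR m} (hf : S.Mem f) {z : DihedralGroup m} (hz : z ≠ 1)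
    (h : ∀ d, cf f (d * z) = cf f d) (d d' : DihedralGroup m) : cf f d = cf f d' := by
  let L : Subgroup (DihedralGroup m) :=
    { carrier := {x | ∀ d, cf f (d * x) = cf f d}
      one_mem' := fun d => by rw [mul_one]
      mul_mem' := fun {x y} hx hy d => by rw [← mul_assoc, hy, hx]
      inv_mem' := fun {x} hx d => by rw [← hx (d * x⁻¹), inv_mul_cancel_right] }
  have hq : ∀ x, cf (f * f) x = ∑ w, cf f w * cf f (w * x) := fun x => by
    rw [cf_mul, ← Equiv.sum_comp (Equiv.inv _)]
    exact sum_congr rfl fun w _ => by simp [S.cf_inv hf]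
  have hL : L = ⊤ := by
    refine (S.prim L fun a b hab ha => ?_).resolve_left fun h0 => hz ?_
    · have h1 : cf (f * f) b = ∑ w, cf f w * cf f w := by
        rw [← S.mul_mem f f hf hf a b hab, hq]
        exact sum_congr rfl fun w _ => by rw [ha w]
      have h2 : ∑ w, cf f (w * b) * cf f (w * b) = ∑ w, cf f w * cf f w :=
        Equiv.sum_comp (Equiv.mulRight b) fun w => cf f w * cf f w
      have h3 : ∑ w, (cf f (w * b) - cf f w) * (cf f (w * b) - cf f w) = 0 := by
        have e : ∀ w, (cf f (w * b) - cf f w) * (cf f (w * b) - cf f w) =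
            cf f (w * b) * cf f (w * b) + cf f w * cf f w - 2 * (cf f w * cf f (w * b)) := fun w => by ring
        simp only [e, sum_sub_distrib, sum_add_distrib, ← mul_sum]
        rw [h2, ← hq, h1]; ring
      exact fun w => sub_eq_zero.1 (mul_self_eq_zero.1
        ((sum_eq_zero_iff_of_nonneg fun w _ => mul_self_nonneg _).1 h3 w (mem_univ _)))
    · exact Subgroup.mem_bot.1 (h0 ▸ (h : z ∈ L))
  have : d⁻¹ * d' ∈ L := hL ▸ Subgroup.mem_top _
  simpa using (this d).symm

/-- Membership gives the sums over a class. -/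
theorem sum_cl {R : Type*} [CommRing R] {f : GR m} (hf : S.Mem f) (d : DihedralGroup m)
    (φ : DihedralGroup m → R) :
    ∑ x, φ x * ((cf (S.ind d) x : R) * cf f x) = (cf f d : R) * ∑ x, φ x * cf (S.ind d) x := by
  rw [mul_sum]
  refine sum_congr rfl fun x _ => ?_
  rw [cf_ind]
  by_cases hx : S.cl.r d x
  · rw [if_pos hx, hf _ _ hx]; push_cast; ring
  · rw [if_neg hx]; simp

end PSRing

end Cfsg.Agent.H78.Dihedral
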